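import Cfsg.Agent.Lib.Fusion.MaxClassRankThree
import Cfsg.Agent.Lib.Fusion.RankTwoTorus

/-!
Congruences of commutators (`Cg`), automorphisms of order prime to `p`, and the step lemma for normalizer
towers: a term of the tower cannot be moved, as its image would be conjugate to a fully normalized
subgroup with a smaller normalizer.
-/

set_option autoImplicit false
set_option linter.unusedSectionVars false

namespace Cfsg.Agent.Fusion.OrderFive

open Cfsg Cfsg.FusionSystem Cfsg.Agent.Fusion Cfsg.Agent.Fusion.Internal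
open Cfsg.Agent.Fusion.MaxClassRankThree
open scoped commutatorElement

section Cg

variable {G : Type*} [Group G]

/-- `x'` is congruent to `x ^ a` modulo `N`. -/
def Cg (N : Subgroup G) (x' x : G) (a : ℤ) : Prop := (x ^ a)⁻¹ * x' ∈ N

variable {N M : Subgroup G} {x x' y y' : G} {a b : ℤ}

theorem cg_iff [N.Normal] : Cg N x' x a ↔ QuotientGroup.mk' N x' = QuotientGroup.mk' N x ^ a := by
  constructor
  · intro h
    have h1 : QuotientGroup.mk' N ((x ^ a)⁻¹ * x') = 1 := mk'_eq_one h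
    rw [map_mul, map_inv, map_zpow, inv_mul_eq_one] at h1
    exact h1.symm
  · intro h
    refine (QuotientGroup.eq_one_iff _).1 ?_
    show QuotientGroup.mk' N ((x ^ a)⁻¹ * x') = 1
    rw [map_mul, map_inv, map_zpow, h, inv_mul_cancel]

theorem Cg.mono (h : Cg N x' x a) (hle : N ≤ M) : Cg M x' x a := hle h

theorem Cg.exp {p : ℕ} [Fact p.Prime] [N.Normal] (h : Cg N x' x a) (h' : Cg N x' x b) (hxp : x ^ p ∈ N)
    (hx : x ∉ N) : (p : ℤ) ∣ a - b :=
  dvd_sub_of_eq (show QuotientGroup.mk' N x ^ p = 1 by rw [← map_pow]; exact mk'_eq_one hxp)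
    (fun h1 => hx ((QuotientGroup.eq_one_iff _).1 h1)) ((cg_iff.1 h).symm.trans (cg_iff.1 h'))

theorem Cg.congr {p : ℕ} [N.Normal] (h : Cg N x' x a) (hxp : x ^ p ∈ N) (hab : (p : ℤ) ∣ a - b) :
    Cg N x' x b :=
  cg_iff.2 ((cg_iff.1 h).trans (zpow_eq_zpow_of_dvd
    (show QuotientGroup.mk' N x ^ p = 1 by rw [← map_pow]; exact mk'_eq_one hxp) hab))

theorem Cg.comm {A B : Subgroup G} [N.Normal] (hx : Cg A x' x a) (hy : Cg B y' y b)
    (h1 : ⁅⁅x, y⁆, x⁆ ∈ N) (h2 : ⁅⁅x, y⁆, y⁆ ∈ N) (hA : ∀ m ∈ A, ⁅m, y⁆ ∈ N)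
    (hB : ∀ l ∈ B, ⁅l, x⁆ ∈ N) (hAB : ∀ m ∈ A, ∀ l ∈ B, ⁅m, l⁆ ∈ N) :
    Cg N ⁅x', y'⁆ ⁅x, y⁆ (a * b) := by
  obtain ⟨m, hm, rfl⟩ : ∃ m ∈ A, x' = x ^ a * m := ⟨_, hx, (mul_inv_cancel_left _ _).symm⟩
  obtain ⟨l, hl, rfl⟩ : ∃ l ∈ B, y' = y ^ b * l := ⟨_, hy, (mul_inv_cancel_left _ _).symm⟩
  rw [cg_iff, map_commutatorElement, map_mul, map_mul, map_zpow, map_zpow, map_commutatorElement]
  refine comm_congr ?_ ?_ (commute_mk' (hA _ hm)) (commute_mk' (hB _ hl)) (commute_mk' (hAB _ hm _ hl))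
  · rw [← map_commutatorElement]; exact commute_mk' h1
  · rw [← map_commutatorElement]; exact commute_mk' h2

theorem conj_mem_iff_comm [N.Normal] : ∀ n ∈ N, ∀ g : G, ⁅n, g⁆ ∈ N := fun n hn g => by
  rw [commutatorElement_def, mul_assoc, mul_assoc, ← mul_assoc g]
  exact mul_mem hn (‹N.Normal›.conj_mem _ (inv_mem hn) g)

theorem comm_mem_symm {N : Subgroup G} {g h : G} (hgh : ⁅g, h⁆ ∈ N) : ⁅h, g⁆ ∈ N := by
  rw [← commutatorElement_inv]; exact inv_mem hgh

theorem comm_one_left_mem {N : Subgroup G} (g : G) : ⁅(1 : G), g⁆ ∈ N := by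
  rw [commutatorElement_one_left]; exact one_mem _

variable {K : Subgroup G}

theorem Cg.iterate [N.Normal] (β : MulAut ↥K) (hN : N ≤ K) (hinv : ∀ n ∈ N, ev β n ∈ N) (hx : x ∈ K)
    (h : Cg N (ev β x) x a) : ∀ r : ℕ, Cg N (ev (β ^ r) x) x (a ^ r) := by
  intro r
  induction r with
  | zero =>
    rw [pow_zero, pow_zero, ev_apply _ hx]
    show (x ^ (1 : ℤ))⁻¹ * x ∈ N
    rw [zpow_one, inv_mul_cancel]
    exact one_mem _
  | succ r ih =>
    have h1 : ev (β ^ (r + 1)) x = ev β (x ^ (a ^ r) * ((x ^ (a ^ r))⁻¹ * ev (β ^ r) x)) := by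
      rw [ev_pow β hx, Function.iterate_succ_apply', ev_pow β hx, mul_inv_cancel_left]
    rw [cg_iff, h1, ev_mul β (zpow_mem hx _) (hN ih), map_mul, mk'_eq_one (hinv _ ih), mul_one,
      ev_zpow β hx, map_zpow, cg_iff.1 h, ← zpow_mul, pow_succ']

end Cg

section Primes

variable {p : ℕ} [Fact p.Prime]

theorem exists_pprime_power {M : Type*} [Group M] [Finite M] (q : M) :
    ∃ k m : ℕ, ¬ p ∣ m ∧ (q ^ p ^ k) ^ m = 1 := by
  obtain ⟨k, m, hm, heq⟩ := Nat.exists_eq_pow_mul_and_not_dvd (orderOf_pos q).ne' p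
    (Fact.out : p.Prime).ne_one
  exact ⟨k, m, hm, by rw [← pow_mul, ← heq, pow_orderOf_eq_one]⟩

theorem dvd_pow_pow_sub (a : ℤ) (k : ℕ) : (p : ℤ) ∣ a ^ p ^ k - a := by
  rw [← ZMod.intCast_zmod_eq_zero_iff_dvd]
  push_cast
  rw [ZMod.pow_card_pow, sub_self]

theorem exists_half (hp2 : p ≠ 2) : ∃ j q : ℕ, 2 * j = 1 + p * q := by
  obtain ⟨k, hk⟩ := (Fact.out : p.Prime).odd_of_ne_two hp2
  exact ⟨k + 1, 1, by omega⟩

end Primes

/-! ### Subgroups of `p`-groups -/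

/-- A normal step of index `p` is central. -/
theorem comm_mem_of_step {G : Type*} [Group G] [Finite G] {p : ℕ} [Fact p.Prime] (hG : IsPGroup p G)
    {A B : Subgroup G} [A.Normal] [B.Normal] (hAB : A ≤ B) (hcard : Nat.card B ≤ p * Nat.card A)
    {g b : G} (hb : b ∈ B) : ⁅g, b⁆ ∈ A := by
  have hp := (Fact.out : p.Prime)
  set π := QuotientGroup.mk' A
  have hQ : IsPGroup p (G ⧸ A) := hG.to_quotient A
  have hn : (B.map π).Normal := Subgroup.Normal.map inferInstance _ (QuotientGroup.mk'_surjective A)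
  have hle : Nat.card (B.map π) ≤ p := by
    have h1 : Nat.card (B.map π) = A.relIndex B := by rw [← Subgroup.relIndex_ker, QuotientGroup.ker_mk']
    have h2 := Subgroup.relIndex_mul_relIndex ⊥ A B bot_le hAB
    rw [Subgroup.relIndex_bot_left, Subgroup.relIndex_bot_left, mul_comm] at h2
    rw [← h2] at hcard
    rw [h1]
    exact Nat.le_of_mul_le_mul_right hcard Nat.card_pos
  refine (QuotientGroup.eq_one_iff _).1 ?_
  show π ⁅g, b⁆ = 1
  rw [map_commutatorElement, commutatorElement_eq_one_iff_mul_comm]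
  by_cases hbot : B.map π = ⊥
  · rw [(Subgroup.eq_bot_iff_forall _).1 hbot _ (Subgroup.mem_map_of_mem π hb)]; simp
  obtain ⟨z, hz, hzc, hzo⟩ := PGroup.exists_orderOf_eq_mem_center hQ _ hbot
  have hz' : Subgroup.zpowers z = B.map π :=
    Subgroup.eq_of_le_of_card_ge (Subgroup.zpowers_le.2 hz) (by rw [Nat.card_zpowers, hzo]; exact hle)
  have : π b ∈ Subgroup.center (G ⧸ A) :=
    Subgroup.zpowers_le.2 hzc (hz'.ge (Subgroup.mem_map_of_mem π hb))
  exact Subgroup.mem_center_iff.1 this (π g)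

variable {Ω : Type*} [Group Ω] {S : Subgroup Ω} [Finite S] {p : ℕ} [Fact p.Prime] {F : FusionSystem S}

/-- The step lemma. -/
theorem invariant_step {K M E₁ B : Subgroup ↥S} [B.Normal] {x u : ↥S} (hE₁ : E₁ = Subgroup.zpowers x ⊔ B)
    (hM : M = Subgroup.zpowers ⁅u, x⁆ ⊔ B) (hK : K ≤ Subgroup.zpowers x ⊔ M)
    (hMK : M ≤ K) (hyu : ⁅⁅u, x⁆, u⁆ ∈ B) (hyx : ⁅⁅u, x⁆, x⁆ ∈ B) (hxp : x ^ p ∈ B)
    (hcard : Nat.card E₁ = Nat.card M)
    (hfn : F.IsFullyNormalized (up E₁))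
    (hlt : Nat.card (Subgroup.normalizer (E₁ : Set ↥S)) < Nat.card (Subgroup.normalizer (M : Set ↥S)))
    {β : MulAut ↥K} (hβ : β ∈ aut F K) (hB : ∀ b ∈ B, ev β b ∈ B) : ∀ a ∈ M, ev β a ∈ M := by
  have hBM : B ≤ M := hM.symm ▸ le_sup_right
  have hBK : B ≤ K := hBM.trans hMK
  set y := ⁅u, x⁆ with hy
  have hyM : y ∈ M := hM.symm ▸ Subgroup.mem_sup_left (Subgroup.mem_zpowers y)
  set π := QuotientGroup.mk' B
  have hxy : Commute (π y) (π x) := commute_mk' hyx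
  suffices hσy : ev β y ∈ M by
    intro a ha
    rw [hM] at ha
    obtain ⟨c, hc, b, hb, rfl⟩ := Subgroup.mem_sup_of_normal_right.1 ha
    obtain ⟨i, rfl⟩ := Subgroup.mem_zpowers_iff.1 hc
    rw [ev_mul β (hMK (zpow_mem hyM i)) (hBK hb), ev_zpow β (hMK hyM)]
    exact mul_mem (zpow_mem hσy i) (hBM (hB b hb))
  by_contra hcon
  have hmem := hK (ev_mem β (hMK hyM))
  rw [hM, ← sup_assoc] at hmem
  obtain ⟨w, hw, b, hb, hwb⟩ := Subgroup.mem_sup_of_normal_right.1 hmem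
  have hwπ : ∃ i k : ℤ, π w = π x ^ i * π y ^ k := by
    have h1 : π w ∈ Subgroup.zpowers (π x) ⊔ Subgroup.zpowers (π y) := by
      rw [← MonoidHom.map_zpowers, ← MonoidHom.map_zpowers, ← Subgroup.map_sup]
      exact Subgroup.mem_map_of_mem π hw
    obtain ⟨v, hv, v', hv', hvv⟩ := mem_sup_comm_zpowers hxy.symm h1
    obtain ⟨i, rfl⟩ := Subgroup.mem_zpowers_iff.1 hv
    obtain ⟨k, rfl⟩ := Subgroup.mem_zpowers_iff.1 hv'
    exact ⟨i, k, hvv.symm⟩
  obtain ⟨i, k, hik⟩ := hwπ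
  have hσ : π (ev β y) = π x ^ i * π y ^ k := by
    rw [← hwb, map_mul, show π b = 1 from mk'_eq_one hb, mul_one, hik]
  have hxπ : π x ^ p = 1 := by rw [← map_pow]; exact mk'_eq_one hxp
  have hi : ¬ (p : ℤ) ∣ i := by
    intro hdvd
    refine hcon ?_
    have h1 : Cg B (ev β y) y k := cg_iff.2 (by
      rw [hσ, zpow_eq_zpow_of_dvd hxπ (b := 0) (by rwa [sub_zero]), zpow_zero, one_mul])
    have := mul_mem (zpow_mem hyM k) (hBM h1)
    rwa [mul_inv_cancel_left] at this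
  obtain ⟨a', v, huv⟩ := ((Nat.prime_iff_prime_int.mp (Fact.out : p.Prime)).coprime_iff_not_dvd).2 hi
  set r := k * v with hr
  have hu : π (u ^ r * x * (u ^ r)⁻¹) = π (ev β y ^ v) := by
    have h1 : ⁅π u ^ r, π x ^ (1 : ℤ)⁆ = ⁅π u, π x⁆ ^ (r * 1) := comm_zpow
      (by rw [← map_commutatorElement]; exact commute_mk' hyu)
      (by rw [← map_commutatorElement]; exact hxy) r 1
    rw [zpow_one, mul_one, ← map_commutatorElement π u x, ← hy] at h1
    calc π (u ^ r * x * (u ^ r)⁻¹) = ⁅π u ^ r, π x⁆ * π x := by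
          simp only [map_mul, map_inv, map_zpow, commutatorElement_def]; group
      _ = π x * π y ^ r := by rw [h1, (hxy.zpow_left r).eq]
      _ = _ := by
        rw [map_zpow, hσ, ((hxy.symm.zpow_zpow i k)).mul_zpow, ← zpow_mul, ← zpow_mul,
          zpow_eq_zpow_of_dvd hxπ (a := i * v) (b := 1) ⟨-a', by linarith [huv, mul_comm v i]⟩, zpow_one]
  let φ := K.subtype.comp β.toMonoidHom
  set R := (M.subgroupOf K).map φ with hR
  have hφ : Function.Injective φ := K.subtype_injective.comp β.injective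
  have hRmem : ∀ {a}, a ∈ M → ev β a ∈ R := fun {a} ha =>
    ⟨⟨a, hMK ha⟩, ha, (ev_apply β (hMK ha)).symm⟩
  have hBR : B ≤ R := fun b hb => by
    obtain ⟨b', hb', rfl⟩ := exists_ev_eq β hBK hB hb
    exact hRmem (hBM hb')
  have hRcard : Nat.card R = Nat.card M := by
    rw [hR, Subgroup.card_map_of_injective hφ, Nat.card_congr (Subgroup.subgroupOfEquivOfLe hMK).toEquiv]
  have hconj : E₁.map (MulAut.conj (u ^ r)).toMonoidHom = R := by
    refine Subgroup.eq_of_le_of_card_ge ?_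
      (by rw [hRcard, Subgroup.card_map_of_injective (MulAut.conj (u ^ r)).injective, hcard])
    rw [hE₁, Subgroup.map_sup]
    refine sup_le ?_ ?_
    · rw [MonoidHom.map_zpowers, Subgroup.zpowers_le]
      have h1 : (ev β y ^ v)⁻¹ * (u ^ r * x * (u ^ r)⁻¹) ∈ B := (QuotientGroup.eq_one_iff _).1 (by
        show π _ = 1
        rw [map_mul, map_inv, hu, inv_mul_cancel])
      have h2 := mul_mem (zpow_mem (hRmem hyM) v) (hBR h1)
      rw [mul_inv_cancel_left] at h2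
      exact h2
    · rintro _ ⟨b, hb, rfl⟩
      exact hBR ((inferInstance : B.Normal).conj_mem b hb _)
  have hbad := hfn.2 _ (isConj_trans (isConj_conj F hconj) (isConj_symm (exists_hom hβ hMK rfl)))
  rw [card_normalizerIn_up, card_normalizerIn_up] at hbad
  omega
where
  mem_sup_comm_zpowers {H : Type _} [Group H] {a b g : H} (hab : Commute a b)
      (hg : g ∈ Subgroup.zpowers a ⊔ Subgroup.zpowers b) :
      ∃ v ∈ Subgroup.zpowers a, ∃ w ∈ Subgroup.zpowers b, v * w = g := by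
    have hle : Subgroup.zpowers b ≤ Subgroup.normalizer (Subgroup.zpowers a : Set H) := by
      refine Subgroup.zpowers_le.2 (Subgroup.mem_normalizer_iff.2 fun c => ?_)
      constructor
      · rintro ⟨i, rfl⟩
        exact ⟨i, by rw [(hab.zpow_left i).symm.eq, mul_inv_cancel_right]⟩
      · rintro ⟨i, hi⟩
        refine ⟨i, mul_right_cancel (b := b⁻¹) (mul_left_cancel (a := b) ?_)⟩
        rw [← mul_assoc, ← mul_assoc, ← (hi : a ^ i = b * c * b⁻¹), (hab.zpow_left i).symm.eq,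
          mul_inv_cancel_right]
    rw [← SetLike.mem_coe, Subgroup.coe_mul_of_right_le_normalizer_left _ _ hle] at hg
    obtain ⟨v, hv, w, hw, rfl⟩ := hg
    exact ⟨v, hv, w, hw, rfl⟩

end Cfsg.Agent.Fusion.OrderFive
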