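import Cfsg.Agent.Lib.Fusion.OrderFive.RankThree
import Cfsg.Agent.Lib.Fusion.Yoshida

/-!
A coset fixed by all automorphisms of `S` in the system, modulo the kernel of a map of `S` onto an abelian
group, keeps the hyperfocal subgroup away from `S`, if `C_p ≀ C_p` is no image of `S`.
-/

set_option autoImplicit false
set_option linter.unusedSectionVars false

namespace Cfsg.Agent.Fusion.OrderFive

open Cfsg Cfsg.FusionSystem Cfsg.Agent.Fusion Cfsg.Agent.Fusion.Internal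
open Cfsg.Agent.Fusion.MaxClassRankThree
open scoped commutatorElement

theorem coe_mem_autInducedBy {Ω : Type*} [Group Ω] {S : Subgroup Ω} {r : MulAut ↥S}
    (h : r ∈ autInducedBy S S) : ∃ g : ↥S, ∀ x, r x = g * x * g⁻¹ := by
  obtain ⟨g, hg, hgx⟩ := mem_autInducedBy_iff.1 h
  exact ⟨⟨g, hg⟩, fun x => Subtype.ext (hgx x)⟩

variable {Ω : Type*} [Group Ω] {S : Subgroup Ω} [Finite S] {p : ℕ} [Fact p.Prime] {F : FusionSystem S}

theorem false_of_hasFixedCoset (hS : IsPGroup p S) (hF : F.IsSaturated p)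
    (hW : ¬ ∃ f : S →* Yoshida.C p ≀ᵣ Yoshida.C p, Function.Surjective f)
    (h : HasFixedCoset F) (hhyp : F.hyperfocalSubgroup p = S) : False := by
  classical
  obtain ⟨P, hPn, hcomm, v, hv, hfix⟩ := h
  letI : CommGroup (↥S ⧸ P) := { (inferInstance : Group (↥S ⧸ P)) with
    mul_comm := fun a b => by
      obtain ⟨a, rfl⟩ := QuotientGroup.mk'_surjective P a
      obtain ⟨b, rfl⟩ := QuotientGroup.mk'_surjective P b
      exact (commute_mk' (hcomm a b)).eq }
  set π : ↥S →* ↥S ⧸ P := QuotientGroup.mk' P with hπ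
  have := finite_mulAut (Ω := Ω) (le_refl S)
  set G := F.autGroup S with hG
  let K : Subgroup G :=
    { carrier := {k | ∀ x, π ((k : MulAut ↥S) x) = π x}
      one_mem' := fun _ => rfl
      mul_mem' := fun {a b} ha hb x => by
        rw [Subgroup.coe_mul, MulAut.mul_apply, ha, hb]
      inv_mem' := fun {a} ha x => by
        have h := ha (((a⁻¹ : G) : MulAut ↥S) x)
        rw [InvMemClass.coe_inv, MulAut.apply_inv_self] at h
        exact h.symm }
  obtain ⟨-, R, hR⟩ := isFullyAutomized_of_fullyNormalized hS hF (isFullyNormalized_self F)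
  have hRK : (R : Subgroup G) ≤ K := by
    intro r hr x
    rw [hR] at hr
    obtain ⟨g, hg⟩ := coe_mem_autInducedBy (Subgroup.mem_subgroupOf.1 hr)
    rw [hg, map_mul, map_mul, map_inv, mul_comm (π g), mul_inv_cancel_right]
  have hidx : ¬ p ∣ K.index := fun hd => R.not_dvd_index (hd.trans (Subgroup.index_dvd_of_le hRK))
  haveI : Fintype (G ⧸ K) := Fintype.ofFinite _
  -- the representative of a coset acts well
  have hout : ∀ (g : G) (x : ↥S),
      π ((((QuotientGroup.mk g : G ⧸ K).out⁻¹ : G) : MulAut ↥S) x) = π (((g⁻¹ : G) : MulAut ↥S) x) := by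
    intro g x
    obtain ⟨k, hk⟩ := QuotientGroup.mk_out_eq_mul K g
    rw [hk, mul_inv_rev, Subgroup.coe_mul, MulAut.mul_apply]
    exact K.inv_mem k.2 _
  let χ : ↥S →* ↥S ⧸ P :=
    ∏ q : G ⧸ K, π.comp (((q.out⁻¹ : G) : MulAut ↥S) : ↥S ≃* ↥S).toMonoidHom
  have hχ : ∀ x, χ x = ∏ q : G ⧸ K, π (((q.out⁻¹ : G) : MulAut ↥S) x) := fun x =>
    MonoidHom.finsetProd_apply _ _ _
  have hstab : ∀ α ∈ G, ∀ x, χ (α x) = χ x := by
    intro α hα x
    rw [hχ, hχ]
    refine Fintype.prod_equiv (MulAction.toPerm ((⟨α, hα⟩ : G)⁻¹)) _ _ fun q => ?_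
    show _ = π _
    rw [MulAction.toPerm_apply, show ((⟨α, hα⟩ : G)⁻¹ • q) = QuotientGroup.mk ((⟨α, hα⟩ : G)⁻¹ * q.out) by
      conv_lhs => rw [← QuotientGroup.out_eq' q]
      rfl, hout, mul_inv_rev, inv_inv]
    rfl
  -- the system fixes `v` modulo `P`
  have hfix' : ∀ g : G, π ((g : MulAut ↥S) v) = π v := by
    intro g
    have hup : up (⊤ : Subgroup ↥S) = S := by
      rw [up, ← MonoidHom.range_eq_map, Subgroup.range_subtype]
    let e : ↥(⊤ : Subgroup ↥S) ≃* ↥S := Subgroup.topEquiv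
    have hmem : (MulAut.congr e).symm (g : MulAut ↥S) ∈ aut F (⊤ : Subgroup ↥S) := by
      rw [mem_aut]
      suffices key : ∀ (T : Subgroup Ω) (hT : T = S) (γ : MulAut ↥T),
          (∀ (y : Ω) (h1 : y ∈ T) (h2 : y ∈ S), ((γ ⟨y, h1⟩ : ↥T) : Ω) = ((g : MulAut ↥S) ⟨y, h2⟩ : ↥S)) →
          γ ∈ F.autGroup T by
        refine key _ hup _ fun y h1 h2 => ?_
        rw [coe_congr]
        rfl
      intro T hT γ hγ
      subst T
      rw [show γ = (g : MulAut ↥S) from MulEquiv.ext fun y => Subtype.ext (hγ y y.2 y.2)]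
      exact g.2
    have h1 := hfix _ hmem
    have h2 : ev ((MulAut.congr e).symm (g : MulAut ↥S)) v = (g : MulAut ↥S) v := by
      rw [ev_apply _ (Subgroup.mem_top v)]
      rfl
    rw [h2] at h1
    have h3 : π (v⁻¹ * (g : MulAut ↥S) v) = 1 := mk'_eq_one h1
    rw [map_mul, map_inv, inv_mul_eq_one] at h3
    exact h3.symm
  have hχv : χ v ≠ 1 := by
    rw [hχ, Finset.prod_congr rfl fun q _ => hfix' _, Finset.prod_const, Finset.card_univ]
    intro h
    refine hv ((QuotientGroup.eq_one_iff v).1 ?_)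
    have hcop : (Fintype.card (G ⧸ K)).Coprime (orderOf (π v)) := by
      obtain ⟨i, hi⟩ := IsPGroup.iff_orderOf.1 (hS.to_quotient P) (π v)
      rw [hi, Fintype.card_eq_nat_card, ← Subgroup.index_eq_card]
      exact Nat.Coprime.pow_right i ((Fact.out : p.Prime).coprime_iff_not_dvd.2 hidx).symm
    have h4 := pow_gcd_eq_one.2 ⟨h, pow_orderOf_eq_one (π v)⟩
    rw [hcop.gcd_eq_one, pow_one] at h4
    exact h4
  obtain ⟨M, hM, hle⟩ := (eq_top_or_exists_le_coatom χ.ker).resolve_left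
    fun h => hχv (MonoidHom.mem_ker.1 (h ▸ Subgroup.mem_top v))
  obtain ⟨θ, -, hθ⟩ := Yoshida.exists_hom_ker_eq hS hM
  have hker : ∀ x, χ x = 1 → θ x = 1 := fun x hx => by
    rw [← MonoidHom.mem_ker, hθ]; exact hle hx
  have haut : ∀ α ∈ F.autGroup S, ∀ x : S, θ (α x) = θ x := by
    intro α hα x
    have h1 := hker (x⁻¹ * α x) (by rw [map_mul, map_inv, hstab α hα, inv_mul_cancel])
    rw [map_mul, map_inv, inv_mul_eq_one] at h1
    exact h1.symm
  have hfoc : F.focalSubgroup ≤ θ.ker.map S.subtype := by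
    refine (Subgroup.closure_le _).2 ?_
    rintro _ ⟨Q, φ, x, hφ, rfl⟩
    refine ⟨⟨x, dom_le hφ x.2⟩⁻¹ * ⟨φ x, apply_mem hφ x⟩, ?_, rfl⟩
    show θ _ = 1
    rw [map_mul, map_inv, Yoshida.stable_of_aut hS hF hW θ haut hφ x, inv_mul_cancel]
  have hSle : S ≤ θ.ker.map S.subtype :=
    hhyp.ge.trans ((hyperfocal_le_focal F p).trans hfoc)
  refine hM.1 (top_unique fun x _ => ?_)
  obtain ⟨y, hy, hyx⟩ := hSle x.2
  rw [← hθ, show x = y from Subtype.ext hyx.symm]
  exact hy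

theorem wreath_three_ne : (⁅⁅(⟨Pi.mulSingle 1 (Multiplicative.ofAdd 1), 1⟩ : Yoshida.C 3 ≀ᵣ Yoshida.C 3),
      (⟨1, Multiplicative.ofAdd 1⟩ : Yoshida.C 3 ≀ᵣ Yoshida.C 3)⁆, (⟨1, Multiplicative.ofAdd 1⟩ : Yoshida.C 3 ≀ᵣ Yoshida.C 3)⁆).left 1 ≠ 1 := by
  simp only [commutatorElement_def]
  decide

/-- `C_3 ≀ C_3` is no image of `S`, if all triple commutators lie in a centre of order `3`. -/
theorem no_wreath_of_class (hp3 : p = 3) (hcard : Nat.card ↥S = p ^ 5) {c : ↥S} (hcp : c ^ p = 1)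
    (hc : Subgroup.center ↥S = Subgroup.zpowers c)
    (hclass : ∀ x y w : ↥S, ⁅⁅x, y⁆, w⁆ ∈ Subgroup.zpowers c) :
    ¬ ∃ f : S →* Yoshida.C p ≀ᵣ Yoshida.C p, Function.Surjective f := by
  subst hp3
  rintro ⟨f, hf⟩
  have hW : Nat.card (Yoshida.C 3 ≀ᵣ Yoshida.C 3) = 3 ^ 4 := by
    rw [RegularWreathProduct.card, Yoshida.card_C]; norm_num
  have hK : Nat.card f.ker = 3 := by
    have h := f.ker.card_mul_index
    rw [Subgroup.index_ker, f.range_eq_top_of_surjective hf, Subgroup.card_top, hW, hcard] at h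
    omega
  obtain ⟨z, hz, hzc, hzo⟩ := PGroup.exists_orderOf_eq_mem_center (IsPGroup.of_card hcard) f.ker
    (fun h => by rw [h, Subgroup.card_bot] at hK; omega)
  have hker : Subgroup.zpowers z = f.ker :=
    Subgroup.eq_of_le_of_card_ge (Subgroup.zpowers_le.2 hz) (by rw [hK, Nat.card_zpowers, hzo])
  have hc3 : Subgroup.zpowers c ≤ f.ker := by
    rw [← hker]
    refine (Subgroup.eq_of_le_of_card_ge (Subgroup.zpowers_le.2 (hc ▸ hzc)) ?_).ge
    rw [Nat.card_zpowers, Nat.card_zpowers, hzo]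
    exact Nat.le_of_dvd (by norm_num) (orderOf_dvd_of_pow_eq_one hcp)
  have hab : ∀ a b : Yoshida.C 3 ≀ᵣ Yoshida.C 3, ⁅⁅a, b⁆, b⁆ = 1 := by
    intro a b
    obtain ⟨a, rfl⟩ := hf a
    obtain ⟨b, rfl⟩ := hf b
    rw [← map_commutatorElement, ← map_commutatorElement]
    exact MonoidHom.mem_ker.1 (hc3 (hclass a b b))
  have h1 := congrArg (fun w : Yoshida.C 3 ≀ᵣ Yoshida.C 3 => w.left 1)
    (hab ⟨Pi.mulSingle 1 (Multiplicative.ofAdd 1), 1⟩ ⟨1, Multiplicative.ofAdd 1⟩)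
  exact wreath_three_ne h1

end Cfsg.Agent.Fusion.OrderFive
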