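import Cfsg.Agent.Lib.Fusion.OrderFive.PearlGroup

/-!
An automorphism of a group of order `p⁵` and maximal class with an elementary `⟨x⟩ γ₄`: its exponents on
the layers satisfy `σ ≡ ξ²` if there is no abelian subgroup of index `p`.
-/

set_option autoImplicit false
set_option linter.unusedSectionVars false

namespace Cfsg.Agent.Fusion.OrderFive

open Subgroup Cfsg.Agent Cfsg.Agent.MaxClass Cfsg.Agent.Fusion.MaxClassRankThree
open scoped commutatorElement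

variable {G : Type*} [Group G] [Finite G] {p : ℕ} [Fact p.Prime]

local notation "γ" => Subgroup.lowerCentralSeries (⊤ : Subgroup G)

variable {E : Subgroup G} {x s : G}

theorem ev_lcs (α : MulAut ↥(⊤ : Subgroup G)) : ∀ i, ∀ a ∈ γ i, ev α a ∈ γ i := by
  let φ : G →* G := MonoidHom.mk' (ev α) fun a b => ev_mul α (mem_top a) (mem_top b)
  intro i
  induction i with
  | zero => exact fun a _ => mem_top _
  | succ i ih =>
    intro a ha
    have hle : γ (i + 1) ≤ (γ (i + 1)).comap φ := by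
      rw [← map_le_iff_le_comap, Subgroup.lowerCentralSeries_succ, map_commutator]
      exact commutator_mono (map_le_iff_le_comap.2 ih) le_top
    exact hle ha

theorem ev_surj (α : MulAut ↥(⊤ : Subgroup G)) (y : G) : ∃ y', ev α y' = y := by
  obtain ⟨y', -, h⟩ := exists_ev_eq α le_top (fun v hv => ev_mem α hv) (mem_top y)
  exact ⟨y', h⟩

theorem ev_layerCent (α : MulAut ↥(⊤ : Subgroup G)) {k : ℕ} : ∀ g ∈ layerCent G k, ev α g ∈ layerCent G k := by
  intro g hg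
  refine mem_layerCent.2 fun w hw => ?_
  obtain ⟨w', hw', rfl⟩ := exists_ev_eq α le_top (ev_lcs α k) hw
  rw [← ev_comm α (mem_top w') (mem_top g)]
  exact ev_lcs α _ _ (mem_layerCent.1 hg w' hw')

namespace Shape2

theorem layerCent_two (h : Shape2 p E x) : layerCent G 2 = layerCent G 1 :=
  MaxClass.layerCent_last_eq (n := 5) h.hG h.hcl (by norm_num) (by decide)

theorem commute_two (h : Shape2 p E x) {g w : G} (hg : g ∈ layerCent G 1) (hw : w ∈ γ 2) : Commute w g :=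
  commute_of_layerCent (n := 5) (by norm_num) h.hG (by rw [h.layerCent_two]; exact hg) hw

theorem lcs_comm (h : Shape2 p E x) (hf : Frame p 5 s x) : ∀ a ∈ γ 1, ∀ b ∈ γ 1, Commute a b := by
  have hq : Frame.seq s x 1 ∈ γ 1 := by
    have := hf.seq_mem 1
    rwa [layer_pos le_rfl] at this
  have hspan := zpowers_sup_eq (n := 5) (by norm_num) h.hG h.hcl le_rfl hq
    (h.seq_not_mem' hf (i := 1) (by norm_num))
  have h1 : ∀ a ∈ γ 1, Commute a (Frame.seq s x 1) := by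
    intro a ha
    rw [← hspan] at ha
    obtain ⟨v, hv, w, hw, rfl⟩ := mem_sup_of_normal_right.1 ha
    obtain ⟨i, rfl⟩ := mem_zpowers_iff.1 hv
    exact ((Commute.refl _).zpow_left i).mul_left (h.commute_two (lcs_one_le_layerCent 1 hq) hw)
  intro a ha b hb
  have hb' := hb
  rw [← hspan] at hb'
  obtain ⟨v, hv, w, hw, rfl⟩ := mem_sup_of_normal_right.1 hb'
  obtain ⟨i, rfl⟩ := mem_zpowers_iff.1 hv
  exact ((h1 a ha).zpow_right i).mul_right (h.commute_two (lcs_one_le_layerCent 1 ha) hw).symm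

theorem comm_ne_one (h : Shape2 p E x) (hf : Frame p 5 s x)
    (hnoab : ∀ A : Subgroup G, (∀ a ∈ A, ∀ b ∈ A, a * b = b * a) → Nat.card A < p ^ 4) :
    ⁅s, Frame.seq s x 1⁆ ≠ 1 := by
  intro hd
  have hq : Frame.seq s x 1 ∈ γ 1 := by
    have := hf.seq_mem 1
    rwa [layer_pos le_rfl] at this
  have hs1 : ∀ a ∈ γ 1, Commute a s := by
    intro a ha
    rw [← zpowers_sup_eq (n := 5) (by norm_num) h.hG h.hcl le_rfl hq
      (h.seq_not_mem' hf (i := 1) (by norm_num))] at ha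
    obtain ⟨v, hv, w, hw, rfl⟩ := mem_sup_of_normal_right.1 ha
    obtain ⟨i, rfl⟩ := mem_zpowers_iff.1 hv
    have hd' : Commute s (Frame.seq s x 1) := commutatorElement_eq_one_iff_mul_comm.1 hd
    exact (hd'.symm.zpow_left i).mul_left
      (h.commute_two hf.mem hw)
  refine (hnoab (layerCent G 1) fun a ha b hb => ?_).ne h.card_layerCent
  rw [← hf.top] at ha hb
  obtain ⟨v, hv, w, hw, rfl⟩ := mem_sup_of_normal_right.1 ha
  obtain ⟨v', hv', w', hw', rfl⟩ := mem_sup_of_normal_right.1 hb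
  obtain ⟨i, rfl⟩ := mem_zpowers_iff.1 hv
  obtain ⟨i', rfl⟩ := mem_zpowers_iff.1 hv'
  refine Commute.eq ?_
  exact (((Commute.refl s).zpow_zpow i i').mul_right ((hs1 w' hw').symm.zpow_left i)).mul_left
    (((hs1 w hw).zpow_right i').mul_right (h.lcs_comm hf w hw w' hw'))

/-- The exponents of an automorphism. -/
theorem weights (h : Shape2 p E x) (hf : Frame p 5 s x)
    (hnoab : ∀ A : Subgroup G, (∀ a ∈ A, ∀ b ∈ A, a * b = b * a) → Nat.card A < p ^ 4)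
    (α : MulAut ↥(⊤ : Subgroup G)) :
    ∃ ξ σ : ℤ, Cg (layerCent G 1) (ev α x) x ξ ∧ Cg (γ 1) (ev α s) s σ ∧ (p : ℤ) ∣ σ - ξ ^ 2 ∧
      ¬ (p : ℤ) ∣ ξ ∧ ev α (Frame.seq s x 3) = Frame.seq s x 3 ^ (σ * ξ ^ 3) := by
  have hn : (3 : ℕ) ≤ 5 := by norm_num
  haveI hΓn : (layerCent G 1).Normal := by
    refine ⟨fun a ha g => ?_⟩
    rw [show g * a * g⁻¹ = ⁅g, a⁆ * a by simp only [commutatorElement_def]; group]
    refine mul_mem (lcs_one_le_layerCent 1 ?_) ha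
    rw [top_lowerCentralSeries_one, _root_.commutator_def]
    exact commutator_mem_commutator (mem_top _) (mem_top _)
  obtain ⟨ξ, hξ⟩ : ∃ ξ : ℤ, Cg (layerCent G 1) (ev α x) x ξ := by
    obtain ⟨v, hv, w, hw, hvw⟩ := mem_sup_of_normal_right.1 (h.sup_top.ge (mem_top (ev α x)))
    obtain ⟨i, rfl⟩ := mem_zpowers_iff.1 hv
    exact ⟨i, by show (x ^ i)⁻¹ * ev α x ∈ _; rw [← hvw, inv_mul_cancel_left]; exact hw⟩
  obtain ⟨σ, hσ⟩ : ∃ σ : ℤ, Cg (γ 1) (ev α s) s σ := by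
    obtain ⟨v, hv, w, hw, hvw⟩ := mem_sup_of_normal_right.1
      (hf.top.ge (ev_layerCent α s hf.mem))
    obtain ⟨i, rfl⟩ := mem_zpowers_iff.1 hv
    exact ⟨i, by show (s ^ i)⁻¹ * ev α s ∈ _; rw [← hvw, inv_mul_cancel_left]; exact hw⟩
  have hmem : ∀ i, 1 ≤ i → Frame.seq s x i ∈ γ i := fun i hi => by
    have := hf.seq_mem i
    rwa [layer_pos hi] at this
  -- one step along the chain
  have step : ∀ (i : ℕ) (a : ℤ), Cg (γ (i + 1)) (ev α (Frame.seq s x i)) (Frame.seq s x i) a →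
      (∀ l ∈ layerCent G 1, ⁅l, Frame.seq s x i⁆ ∈ γ (i + 2)) →
      Cg (γ (i + 2)) (ev α (Frame.seq s x (i + 1))) (Frame.seq s x (i + 1)) (a * ξ) := by
    intro i a hy hΓ
    have hyx : ⁅Frame.seq s x i, x⁆ ∈ γ (i + 1) := hmem (i + 1) (by omega)
    have h1 := Cg.comm (N := γ (i + 2)) hy hξ (Pearl.lcs_succ_mem hyx _) (Pearl.lcs_succ_mem hyx _)
      (fun m hm => Pearl.lcs_succ_mem hm _) hΓ (fun m hm l _ => Pearl.lcs_succ_mem hm l)
    rwa [← ev_comm α (mem_top _) (mem_top _)] at h1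
  have hΓ0 : ∀ l ∈ layerCent G 1, ⁅l, s⁆ ∈ γ 2 := by
    intro l hl
    rw [← hf.top] at hl
    obtain ⟨v, hv, w, hw, rfl⟩ := mem_sup_of_normal_right.1 hl
    obtain ⟨i, rfl⟩ := mem_zpowers_iff.1 hv
    rw [show ⁅s ^ i * w, s⁆ = s ^ i * ⁅w, s⁆ * (s ^ i)⁻¹ by simp only [commutatorElement_def]; group]
    exact (inferInstance : (γ 2).Normal).conj_mem _ (Pearl.lcs_succ_mem hw s) _
  have hw1 := step 0 σ hσ hΓ0
  have hw2 := step 1 _ hw1 fun l hl => comm_mem_symm (mem_layerCent.1 hl _ (hmem 1 le_rfl))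
  have hw3 := step 2 _ hw2 fun l hl =>
    comm_mem_symm (mem_layerCent.1 (h.layerCent_two.ge hl) _ (hmem 2 one_le_two))
  have hbot : γ 4 = ⊥ := Pearl.lcs_high hn h.hG (by norm_num)
  have hc : ev α (Frame.seq s x 3) = Frame.seq s x 3 ^ (σ * ξ ^ 3) := by
    have h1 := hw3
    rw [show Cg (γ (2 + 2)) (ev α (Frame.seq s x (2 + 1))) (Frame.seq s x (2 + 1)) (σ * ξ * ξ * ξ) ↔
      ((Frame.seq s x 3) ^ (σ * ξ * ξ * ξ))⁻¹ * ev α (Frame.seq s x 3) ∈ γ 4 from Iff.rfl, hbot,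
      mem_bot, inv_mul_eq_one] at h1
    rw [← h1]
    congr 1
    ring
  -- the commutator of `s` and `[s, x]`
  set q₁ := Frame.seq s x 1 with hq₁
  have hd : ⁅s, q₁⁆ ∈ γ 3 := comm_mem_symm (mem_layerCent.1 hf.mem _ (hmem 1 le_rfl))
  have hcen : ∀ g : G, ⁅⁅s, q₁⁆, g⁆ ∈ γ 4 := fun g => Pearl.lcs_succ_mem hd g
  have hwd := Cg.comm (N := γ 4) (A := γ 1) (B := γ 2) hσ hw1 (hcen s) (hcen q₁)
    (fun m hm => by
      rw [commutatorElement_eq_one_iff_mul_comm.2 (h.lcs_comm hf m hm q₁ (hmem 1 le_rfl)).eq]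
      exact one_mem _)
    (fun l hl => by
      rw [commutatorElement_eq_one_iff_mul_comm.2 (h.commute_two hf.mem hl).eq]
      exact one_mem _)
    (fun m hm l hl => by
      rw [commutatorElement_eq_one_iff_mul_comm.2
        (h.commute_two (lcs_one_le_layerCent 1 hm) hl).symm.eq]
      exact one_mem _)
  rw [← ev_comm α (mem_top _) (mem_top _)] at hwd
  have hspan : zpowers (Frame.seq s x 3) = γ 3 := by
    have h1 := zpowers_sup_eq (n := 5) hn h.hG h.hcl (by norm_num : 1 ≤ 3) (hmem 3 (by norm_num))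
      (h.seq_not_mem' hf le_rfl)
    rwa [show (3 : ℕ) + 1 = 4 from rfl, hbot, sup_bot_eq] at h1
  obtain ⟨k, hk⟩ := mem_zpowers_iff.1 (hspan.ge hd)
  have hdp : ⁅s, q₁⁆ ^ p ∈ γ 4 := by
    rw [hbot, mem_bot]
    have h1 := pow_card_eq_one' (x := (⟨⁅s, q₁⁆, hd⟩ : ↥(γ 3)))
    rw [h.card_lcs' (by norm_num : 1 ≤ 3), pow_one] at h1
    exact congrArg Subtype.val h1
  have hd1 : ⁅s, q₁⁆ ∉ γ 4 := by
    rw [hbot, mem_bot]
    exact h.comm_ne_one hf hnoab
  have hwd' : Cg (γ 4) (ev α ⁅s, q₁⁆) ⁅s, q₁⁆ (σ * ξ ^ 3) := by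
    rw [← hk, ev_zpow α (mem_top _), hc, ← zpow_mul, Cg, ← zpow_mul, mul_comm k, inv_mul_cancel]
    exact one_mem _
  have hdvd := hwd.exp (p := p) hwd' hdp hd1
  have hP := Nat.prime_iff_prime_int.1 (Fact.out : p.Prime)
  have hne : ¬ (p : ℤ) ∣ σ * ξ ^ 3 := fun hdiv => hd1 (by
    have h1 := hwd'.congr hdp (b := 0) (by rwa [sub_zero])
    rw [Cg, zpow_zero, inv_one, one_mul, hbot, mem_bot] at h1
    rw [hbot, mem_bot]
    refine ev_injective α (mem_top _) (mem_top _) ?_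
    rw [h1, ev_apply α (mem_top 1)]
    exact (congrArg Subtype.val (map_one α)).symm)
  have hξ0 : ¬ (p : ℤ) ∣ ξ := fun h0 => hne (dvd_mul_of_dvd_right (dvd_pow h0 three_ne_zero) σ)
  have hσ0 : ¬ (p : ℤ) ∣ σ := fun h0 => hne (dvd_mul_of_dvd_left h0 _)
  refine ⟨ξ, σ, hξ, hσ, ?_, hξ0, hc⟩
  rw [show σ * (σ * ξ) - σ * ξ ^ 3 = σ * (ξ * (σ - ξ ^ 2)) by ring] at hdvd
  exact (hP.dvd_or_dvd ((hP.dvd_or_dvd hdvd).resolve_left hσ0)).resolve_left hξ0

end Shape2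

end Cfsg.Agent.Fusion.OrderFive
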