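import Cfsg.Agent.Lib.Fusion.OrderFive.RankThree
import Cfsg.Agent.Lib.Fusion.OrderFive.PearlWeights
import Cfsg.Agent.Lib.Fusion.MaxClassRankThreeFalse
import Cfsg.Agent.Lib.Fusion.Yoshida
import Cfsg.Agent.Lib.Pearl.Three

/-!
An elementary abelian essential subgroup of order `p²` in a group of order `p⁵` without an abelian subgroup
of index `p`: then `p ∈ {3, 7}`, and for `p = 3` there is a fixed coset and no image `C_3 ≀ C_3`.
-/

set_option autoImplicit false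
set_option linter.unusedSectionVars false
set_option maxHeartbeats 1000000

namespace Cfsg.Agent.Fusion.OrderFive

open Cfsg Cfsg.FusionSystem Cfsg.Agent.Fusion Cfsg.Agent.Fusion.Internal
open Cfsg.Agent.Fusion.MaxClassRankThree
open scoped commutatorElement

variable {p : ℕ} [Fact p.Prime]
variable {Ω : Type*} [Group Ω] {S : Subgroup Ω} [Finite S] {F : FusionSystem S}
variable {E : Subgroup ↥S} {x : ↥S}

set_option quotPrecheck false
local notation "γ" => Subgroup.lowerCentralSeries (⊤ : Subgroup ↥S)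

/-- The hypotheses. -/
structure Sq (p : ℕ) (F : FusionSystem S) (E : Subgroup ↥S) : Prop where
  hS : IsPGroup p S
  hF : F.IsSaturated p
  hp2 : p ≠ 2
  card : Nat.card ↥S = p ^ 5
  noab : ∀ A : Subgroup ↥S, (∀ a ∈ A, ∀ b ∈ A, a * b = b * a) → Nat.card A < p ^ 4
  ess : F.IsEssential p (up E)
  cardE : Nat.card E = p ^ 2
  pow : ∀ a ∈ E, a ^ p = 1
  self : Subgroup.centralizer (E : Set ↥S) ≤ E

theorem Sq.comm (hs : Sq p F E) : ∀ a ∈ E, ∀ b ∈ E, a * b = b * a := fun a ha b hb =>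
  Pearl.comm_of_card_sq E hs.cardE a ha b hb

theorem Sq.exists_shape (hs : Sq p F E) : ∃ x, Shape2 p E x :=
  exists_shape2 hs.card hs.cardE hs.pow hs.self

theorem Sq.normalizer_E (_hs : Sq p F E) (h : Shape2 p E x) :
    Subgroup.normalizer (E : Set ↥S) = Subgroup.zpowers x ⊔ γ 2 := by
  have := h.normalizer_sup (j := 2) (by norm_num) le_rfl
  rwa [show (2 : ℕ) + 1 = 3 from rfl, ← h.hE] at this

theorem Sq.isFullyNormalized_sup (hs : Sq p F E) (h : Shape2 p E x) :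
    F.IsFullyNormalized (up (Subgroup.zpowers x ⊔ γ 2)) := by
  set K := Subgroup.zpowers x ⊔ γ 2 with hK
  have hEK : E ≤ K := Subgroup.le_normalizer.trans (hs.normalizer_E h).le
  refine ⟨up_le K, ?_⟩
  rintro Q ⟨φ, hφ, rfl⟩
  let φ' : ↥K →* ↥S :=
    { toFun := fun a => ⟨φ ⟨((a : ↥S) : Ω), coe_mem_up.2 a.2⟩, apply_mem hφ _⟩
      map_one' := Subtype.ext (map_one φ)
      map_mul' := fun a b => Subtype.ext (map_mul φ ⟨_, coe_mem_up.2 a.2⟩ ⟨_, coe_mem_up.2 b.2⟩) }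
  have hinj : Function.Injective φ' := fun a b hab => by
    have := F.injective_of_mem hφ (congrArg Subtype.val hab)
    exact Subtype.ext (Subtype.ext (congrArg Subtype.val this :))
  let E' : Subgroup ↥S := (E.subgroupOf K).map φ'
  have hcE' : Nat.card E' = p ^ 2 := by
    rw [Subgroup.card_map_of_injective hinj, Nat.card_congr (Subgroup.subgroupOfEquivOfLe hEK).toEquiv,
      hs.cardE]
  have hE'c : F.IsConj (up E) (up E') := by
    refine ⟨_, restrict_mem hφ (Subgroup.map_mono hEK), ?_⟩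
    ext y
    constructor
    · rintro ⟨a, rfl⟩
      exact ⟨_, ⟨⟨⟨(a : Ω), up_le _ a.2⟩, hEK (mk_mem a.2)⟩, mk_mem a.2, rfl⟩, rfl⟩
    · rintro ⟨_, ⟨a, ha, rfl⟩, rfl⟩
      exact ⟨⟨((a : ↥S) : Ω), coe_mem_up.2 ha⟩, rfl⟩
  obtain ⟨x', hx'⟩ := exists_shape2 (E := E') hs.card hcE'
    (by
      rintro _ ⟨a, ha, rfl⟩
      rw [← map_pow, show a ^ p = 1 from Subtype.ext (hs.pow _ ha), map_one])
    (fun g hg => coe_mem_up.1 (hs.ess.1.2 _ hE'c (by rw [centralizerIn_up]; exact coe_mem_up.2 hg)))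
  have hN' : Subgroup.normalizer (E' : Set ↥S) = Subgroup.zpowers x' ⊔ γ 2 := by
    have := hx'.normalizer_sup (j := 2) (by norm_num) le_rfl
    rwa [show (2 : ℕ) + 1 = 3 from rfl, ← hx'.hE] at this
  have hrange : φ'.range = Subgroup.normalizer (E' : Set ↥S) := by
    refine Subgroup.eq_of_le_of_card_ge ?_ ?_
    · rw [MonoidHom.range_eq_map]
      refine (Subgroup.map_mono ?_).trans (Subgroup.le_normalizer_map φ')
      intro a _
      refine Subgroup.mem_normalizer_iff.2 fun b => ?_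
      exact Subgroup.mem_normalizer_iff.1 ((hs.normalizer_E h).ge a.2) b
    · rw [hN', hx'.card_sup' (by norm_num : 1 ≤ 2) (by norm_num),
        ← Nat.card_congr (MonoidHom.ofInjective hinj).toEquiv, hK,
        h.card_sup' (by norm_num : 1 ≤ 2) (by norm_num)]
  have hQ : φ.range = up (Subgroup.zpowers x' ⊔ γ 2) := by
    rw [← hN', ← hrange]
    ext y
    constructor
    · rintro ⟨a, rfl⟩
      exact ⟨_, ⟨⟨⟨(a : Ω), up_le _ a.2⟩, mk_mem a.2⟩, rfl⟩, rfl⟩
    · rintro ⟨_, ⟨a, rfl⟩, rfl⟩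
      exact ⟨⟨((a : ↥S) : Ω), coe_mem_up.2 a.2⟩, rfl⟩
  rw [hQ, card_normalizerIn_up, card_normalizerIn_up]
  refine le_of_eq ?_
  rw [show (2 : ℕ) = 1 + 1 from rfl, hx'.normalizer_sup le_rfl (by norm_num), hK,
    show (2 : ℕ) = 1 + 1 from rfl, h.normalizer_sup le_rfl (by norm_num),
    h.card_sup' le_rfl (by norm_num), hx'.card_sup' le_rfl (by norm_num)]

/-- The torus element on `E`. -/
theorem Sq.exists_torus_E (hs : Sq p F E) (h : Shape2 p E x) {s : ↥S} (hf : MaxClass.Frame p 5 s x)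
    {j q₀ : ℕ} (hj : 2 * j = 1 + p * q₀) :
    ∃ q ∈ aut F E, Cg (γ 3) (ev q x) x (-(j : ℤ)) ∧
      ev q (MaxClass.Frame.seq s x 3) = MaxClass.Frame.seq s x 3 ^ (-2 : ℤ) := by
  classical
  have hn : (3 : ℕ) ≤ 5 := by norm_num
  set q₂ := MaxClass.Frame.seq s x 2 with hq₂
  set c := MaxClass.Frame.seq s x 3 with hc
  have hq2γ : q₂ ∈ γ 2 := by
    have := hf.seq_mem 2
    rwa [MaxClass.layer_pos one_le_two] at this
  have hcγ : c ∈ γ 3 := by
    have := hf.seq_mem 3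
    rwa [MaxClass.layer_pos (by norm_num : 1 ≤ 3)] at this
  have hbot : γ 4 = ⊥ := Pearl.lcs_high hn h.hG (by norm_num)
  have hc1 : c ≠ 1 := fun h1 => h.seq_not_mem' hf le_rfl (by rw [← hc, h1]; exact one_mem _)
  have hspan : Subgroup.zpowers c = γ 3 := by
    have h1 := MaxClass.zpowers_sup_eq (n := 5) hn h.hG h.hcl (by norm_num : 1 ≤ 3) hcγ
      (h.seq_not_mem' hf le_rfl)
    rwa [show (3 : ℕ) + 1 = 4 from rfl, hbot, sup_bot_eq] at h1
  have hγE : γ 3 ≤ E := by rw [h.hE]; exact le_sup_right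
  letI : CommGroup ↥E :=
    { (inferInstance : Group ↥E) with mul_comm := fun a b => Subtype.ext (hs.comm _ a.2 _ b.2) }
  have hq2N : q₂ ∈ Subgroup.normalizer (E : Set ↥S) :=
    (hs.normalizer_E h).ge (Subgroup.mem_sup_right hq2γ)
  let cE : ↥E := ⟨c, hγE hcγ⟩
  let xE : ↥E := ⟨x, h.hx⟩
  set t : MulAut ↥E := Subgroup.normalizerMonoidHom E ⟨q₂, hq2N⟩ with ht
  have htval : ∀ a : ↥E, (t a : ↥S) = q₂ * a * q₂⁻¹ := fun a => rfl
  have htA : t ∈ aut F E := conj_mem_aut F hq2N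
  have hpow : ∀ a : ↥E, a ^ p = 1 := fun a => Subtype.ext (hs.pow _ a.2)
  have hcen : ∀ a : ↥S, a ∈ γ 3 → ∀ g, Commute a g := fun a ha g =>
    (Subgroup.mem_center_iff.1 (MaxClass.lcs_top_le_center (n := 5) hn h.hG ha) g).symm
  have htfix : ∀ a : ↥E, (a : ↥S) ∈ γ 3 → t a = a := fun a ha => Subtype.ext (by
    rw [htval, (hcen _ ha q₂).symm.eq, mul_inv_cancel_right])
  have htx : t xE = cE * xE := Subtype.ext (by
    rw [htval, Subgroup.coe_mul]
    show q₂ * x * q₂⁻¹ = ⁅q₂, x⁆ * x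
    simp only [commutatorElement_def]; group)
  have htc : ∀ a : ↥E, a⁻¹ * t a ∈ (γ 3).subgroupOf E := fun a => by
    rw [mul_comm, Subgroup.mem_subgroupOf, Subgroup.coe_mul, InvMemClass.coe_inv, htval]
    exact Pearl.lcs_succ_mem hq2γ _
  have htiter : ∀ (a : ↥E) (k : ℕ), (t ^ k) a = a * (a⁻¹ * t a) ^ k := fun a k =>
    aut_pow_apply_of_fixed t (mul_inv_cancel_left a (t a)).symm (htfix _ (htc a)) k
  have htp : t ^ p = 1 := MulEquiv.ext fun a => by rw [htiter, hpow, mul_one, MulAut.one_apply]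
  have ht1 : t ≠ 1 := fun h1 => hc1 (by
    have h2 : cE * xE = 1 * xE := by rw [one_mul, ← htx, h1]; rfl
    exact congrArg Subtype.val (mul_right_cancel h2))
  obtain ⟨f, hf', hft⟩ := exists_not_normalizes hs.ess hs.comm htA htp ht1
  set KE : Subgroup ↥E := (γ 3).subgroupOf E with hKE
  have hKE1 : KE ≠ ⊤ := fun h1 => h.not_mem_lcs (by norm_num : 1 ≤ 3) (h1.ge (Subgroup.mem_top xE))
  obtain ⟨b, hb, hbt, hbK⟩ := RankTwoTorus.exists_torus (U := ↥E) (fun a b => mul_comm a b) hs.cardE hpow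
    (σ := t) (τ := f * t * f⁻¹) ⟨1, by rw [pow_one, htp]⟩
    ⟨1, by rw [pow_one, conj_pow, htp, mul_one, mul_inv_cancel]⟩ ht1 hft hj hKE1 htc
  have hbA : b ∈ aut F E := (Subgroup.closure_le _).2 (by
    rintro _ (rfl | rfl)
    exacts [htA, mul_mem (mul_mem hf' htA) (inv_mem hf')]) hb
  have hbx : (xE ^ (-(j : ℤ)))⁻¹ * b xE ∈ KE := by
    rw [zpow_neg, inv_inv, zpow_natCast, mul_comm]
    exact hbK xE
  refine ⟨b, hbA, ?_, ?_⟩
  · show (x ^ (-(j : ℤ)))⁻¹ * ev b x ∈ γ 3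
    rw [ev_apply b h.hx]
    exact hbx
  have h4 : b (t xE) = (t ^ 4) (b xE) := by
    rw [mul_inv_eq_iff_eq_mul] at hbt
    exact congrArg (fun u : MulAut ↥E => u xE) hbt
  set r := b xE with hr
  set w := (xE ^ (-(j : ℤ)))⁻¹ * r with hwdef
  have hrw : r = xE ^ (-(j : ℤ)) * w := (mul_inv_cancel_left _ _).symm
  have h5 : r⁻¹ * t r = cE ^ (-(j : ℤ)) := by
    rw [hrw, map_mul, map_zpow, htx, htfix w hbx, mul_zpow, mul_assoc, mul_comm (cE ^ (-(j : ℤ))),
      inv_mul_cancel_left]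
  rw [htx, map_mul, htiter, h5, mul_comm r, mul_left_inj] at h4
  have h6 : b cE = cE ^ (-2 : ℤ) := by
    rw [h4, ← zpow_natCast, ← zpow_mul]
    refine zpow_eq_zpow_of_dvd (hpow cE) ⟨-2 * (q₀ : ℤ), ?_⟩
    have hj' : (2 : ℤ) * j = 1 + p * q₀ := by exact_mod_cast hj
    push_cast
    linear_combination (-2 : ℤ) * hj'
  rw [ev_apply b (hγE hcγ)]
  exact congrArg Subtype.val h6

/-- The extension of the torus element to `S`. -/
theorem Sq.extend_torus (hs : Sq p F E) (h : Shape2 p E x) {s : ↥S} (hf : MaxClass.Frame p 5 s x)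
    {a a' : ℤ} {q : MulAut ↥E} (hq : q ∈ aut F E) (hqx : Cg (γ 3) (ev q x) x a)
    (hqc : ev q (MaxClass.Frame.seq s x 3) = MaxClass.Frame.seq s x 3 ^ a') :
    ∃ α ∈ aut F (⊤ : Subgroup ↥S), Cg (MaxClass.layerCent ↥S 1) (ev α x) x a ∧
      ev α (MaxClass.Frame.seq s x 3) = MaxClass.Frame.seq s x 3 ^ a' := by
  have hp := (Fact.out : p.Prime)
  have hn : (3 : ℕ) ≤ 5 := by norm_num
  set c := MaxClass.Frame.seq s x 3 with hc
  have hmem : ∀ i, 1 ≤ i → MaxClass.Frame.seq s x i ∈ γ i := fun i hi => by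
    have := hf.seq_mem i
    rwa [MaxClass.layer_pos hi] at this
  have hbot : γ 4 = ⊥ := Pearl.lcs_high hn h.hG (by norm_num)
  have hc1 : c ≠ 1 := fun h1 => h.seq_not_mem' hf le_rfl (by rw [← hc, h1]; exact one_mem _)
  have hspan : ∀ i, 1 ≤ i → i ≤ 3 → Subgroup.zpowers (MaxClass.Frame.seq s x i) ⊔ γ (i + 1) = γ i :=
    fun i hi hi3 => MaxClass.zpowers_sup_eq (n := 5) hn h.hG h.hcl hi (hmem i hi) (h.seq_not_mem' hf hi3)
  have hspan3 : Subgroup.zpowers c = γ 3 := by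
    have h1 := hspan 3 (by norm_num) le_rfl
    rwa [show (3 : ℕ) + 1 = 4 from rfl, hbot, sup_bot_eq] at h1
  have hlle : ∀ {i k : ℕ}, i ≤ k → γ k ≤ γ i := fun hik => MaxClass.lcs_le hik
  have hcγ : c ∈ γ 3 := hmem 3 (by norm_num)
  have hEdef := h.hE
  set K2 := Subgroup.zpowers x ⊔ γ 2 with hK2
  set K1 := Subgroup.zpowers x ⊔ γ 1 with hK1
  have hγE : γ 3 ≤ E := hEdef ▸ le_sup_right
  have hEK2 : E ≤ K2 := hEdef.le.trans (sup_le_sup_left (hlle (by norm_num)) _)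
  have hK21 : K2 ≤ K1 := sup_le_sup_left (hlle one_le_two) _
  have hinv3 : ∀ {K : Subgroup ↥S} (β : MulAut ↥K), c ∈ K → ev β c = c ^ a' →
      ∀ v ∈ γ 3, ev β v ∈ γ 3 := by
    intro K β hcK hβc v hv
    rw [← hspan3] at hv ⊢
    obtain ⟨i, rfl⟩ := Subgroup.mem_zpowers_iff.1 hv
    rw [ev_zpow β hcK, hβc]
    exact zpow_mem (zpow_mem (Subgroup.mem_zpowers c) _) _
  have hxE : x ∈ E := h.hx
  have hcE : c ∈ E := hγE hcγ
  -- order prime to `p`
  obtain ⟨k, r, hr, hqr⟩ := exists_pprime_power (p := p) q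
  have hqx' : Cg (γ 3) (ev (q ^ p ^ k) x) x a :=
    (Cg.iterate q hγE (hinv3 q hcE hqc) hxE hqx _).congr (p := p)
      (by rw [h.xp]; exact one_mem _) (dvd_pow_pow_sub a k)
  have hqc' : ev (q ^ p ^ k) c = c ^ a' := by
    have hb : ∀ v ∈ (⊥ : Subgroup ↥S), ev q v ∈ (⊥ : Subgroup ↥S) := fun v hv => by
      rw [Subgroup.mem_bot.1 hv, ev_apply q (one_mem E)]
      show ((q 1 : ↥E) : ↥S) ∈ (⊥ : Subgroup ↥S)
      rw [map_one]
      exact one_mem _
    exact cg_bot.1 ((Cg.iterate q bot_le hb hcE (cg_bot.2 hqc) _).congr (p := p)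
      (Subgroup.mem_bot.2 (hs.pow c hcE)) (dvd_pow_pow_sub a' k))
  have hcard : ∀ i, 1 ≤ i → Nat.card (γ i) = p ^ (4 - i) := fun i hi => h.card_lcs' hi
  let f₀ : ℕ → Subgroup ↥S := fun i => match i with
    | 0 => ⊥
    | 1 => γ 3
    | _ => E
  obtain ⟨β, hβ, hagree, r₁, hr₁, hβr⟩ := Internal.exists_extension hs.hS hs.hF hs.ess.2.1
    (pow_mem hq _) hqr hr f₀ 2 rfl rfl
    (by intro i hi; interval_cases i; exacts [bot_le, hγE])
    (by
      intro i hi
      interval_cases i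
      · show Nat.card (γ 3) ≤ p * Nat.card (⊥ : Subgroup ↥S)
        rw [hcard 3 (by norm_num), Subgroup.card_bot, mul_one, show 4 - 3 = 1 from rfl, pow_one]
      · show Nat.card E ≤ p * Nat.card (γ 3)
        rw [hcard 3 (by norm_num), hs.cardE, show 4 - 3 = 1 from rfl, pow_one, sq])
    (by
      intro i hi y hy
      interval_cases i
      · rw [show y = 1 from Subtype.ext (Subgroup.mem_bot.1 hy), map_one]
        exact (f₀ 0).one_mem
      · rw [← ev_apply _ y.2]; exact hinv3 _ hcE hqc' _ hy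
      · exact ((q ^ p ^ k) y).2)
    (by
      intro g hg i hi y hy
      interval_cases i
      · rw [Subgroup.mem_bot.1 hy, mul_one, mul_inv_cancel]; exact (f₀ 0).one_mem
      · exact (inferInstance : (γ 3).Normal).conj_mem y hy g
      · exact (Subgroup.mem_normalizer_iff.1 hg y).1 hy)
    (hs.normalizer_E h)
  have hev₁ : ∀ y ∈ E, ev β y = ev (q ^ p ^ k) y := fun y hy => ev_of_agree hEK2 hagree hy
  have hβc : ev β c = c ^ a' := by rw [hev₁ c hcE, hqc']
  have hβ3 := hinv3 β (hEK2 hcE) hβc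
  have htopn : ∀ i, Subgroup.normalizer (γ i : Set ↥S) = ⊤ := fun i =>
    Subgroup.normalizer_eq_top_iff.2 inferInstance
  have hpx : ∀ i, 1 ≤ i → x ^ p ∈ γ i := fun i _ => by rw [h.xp]; exact one_mem _
  have hnK2 : Subgroup.normalizer (K2 : Set ↥S) = K1 := h.normalizer_sup le_rfl (by norm_num)
  have hβ2 : ∀ v ∈ γ 2, ev β v ∈ γ 2 := invariant_step (E₁ := E) (B := γ 3) (x := x)
    (u := MaxClass.Frame.seq s x 1) hEdef (hspan 2 one_le_two (by norm_num)).symm le_rfl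
    le_sup_right (Pearl.lcs_succ_mem (hmem 2 one_le_two) _) (Pearl.lcs_succ_mem (hmem 2 one_le_two) _)
    (hpx 3 (by norm_num)) (by rw [hs.cardE, hcard 2 one_le_two]) hs.ess.2.1
    (by
      rw [hs.normalizer_E h, h.card_sup' one_le_two (by norm_num), htopn 2, Subgroup.card_top, hs.card]
      exact Nat.pow_lt_pow_right hp.one_lt (by norm_num))
    hβ hβ3
  let f₁ : ℕ → Subgroup ↥S := fun i => match i with
    | 0 => ⊥
    | 1 => γ 3
    | 2 => γ 2
    | _ => K2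
  obtain ⟨β₁, hβ₁, hagree₁, r₂, hr₂, hβ₁r⟩ := Internal.exists_extension hs.hS hs.hF
    (hs.isFullyNormalized_sup h) hβ hβr hr₁ f₁ 3 rfl rfl
    (by intro i hi; interval_cases i; exacts [bot_le, hlle (by norm_num), le_sup_right])
    (by
      intro i hi
      interval_cases i
      · show Nat.card (γ 3) ≤ p * Nat.card (⊥ : Subgroup ↥S)
        rw [hcard 3 (by norm_num), Subgroup.card_bot, mul_one, show 4 - 3 = 1 from rfl, pow_one]
      · show Nat.card (γ 2) ≤ p * Nat.card (γ 3)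
        rw [hcard 3 (by norm_num), hcard 2 one_le_two, show 4 - 3 = 1 from rfl, pow_one,
          show 4 - 2 = 2 from rfl, sq]
      · show Nat.card K2 ≤ p * Nat.card (γ 2)
        rw [hK2, h.card_sup' one_le_two (by norm_num), hcard 2 one_le_two, ← pow_succ']
        exact le_of_eq rfl)
    (by
      intro i hi y hy
      interval_cases i
      · rw [show y = 1 from Subtype.ext (Subgroup.mem_bot.1 hy), map_one]
        exact (f₁ 0).one_mem
      · rw [← ev_apply _ y.2]; exact hβ3 _ hy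
      · rw [← ev_apply _ y.2]; exact hβ2 _ hy
      · exact (β y).2)
    (by
      intro g hg i hi y hy
      interval_cases i
      · rw [Subgroup.mem_bot.1 hy, mul_one, mul_inv_cancel]; exact (f₁ 0).one_mem
      · exact (inferInstance : (γ 3).Normal).conj_mem y hy g
      · exact (inferInstance : (γ 2).Normal).conj_mem y hy g
      · exact (Subgroup.mem_normalizer_iff.1 hg y).1 hy)
    hnK2
  have hev₂ : ∀ y ∈ K2, ev β₁ y = ev β y := fun y hy => ev_of_agree hK21 hagree₁ hy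
  have hβ₁2 : ∀ v ∈ γ 2, ev β₁ v ∈ γ 2 := fun v hv => by
    rw [hev₂ v (Subgroup.mem_sup_right hv)]; exact hβ2 v hv
  have hβ₁1 : ∀ v ∈ γ 1, ev β₁ v ∈ γ 1 := invariant_step (E₁ := K2) (B := γ 2) (x := x) (u := s)
    hK2 (hspan 1 le_rfl (by norm_num)).symm le_rfl le_sup_right
    (Pearl.lcs_succ_mem (hmem 1 le_rfl) _) (Pearl.lcs_succ_mem (hmem 1 le_rfl) _)
    (hpx 2 one_le_two) (by rw [hK2, h.card_sup' one_le_two (by norm_num), hcard 1 le_rfl]; rfl)
    (hs.isFullyNormalized_sup h)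
    (by
      rw [hnK2, hK1, h.card_sup' le_rfl (by norm_num), htopn 1, Subgroup.card_top, hs.card]
      exact Nat.pow_lt_pow_right hp.one_lt (by norm_num))
    hβ₁ hβ₁2
  have hK1n : Subgroup.normalizer (K1 : Set ↥S) = ⊤ := top_unique fun g _ => mem_normalizer_of_gen hK1 (by
    rw [show g * x * g⁻¹ = ⁅g, x⁆ * x by simp only [commutatorElement_def]; group]
    refine mul_mem (Subgroup.mem_sup_right ?_) (Subgroup.mem_sup_left (Subgroup.mem_zpowers x))
    rw [Subgroup.top_lowerCentralSeries_one, _root_.commutator_def]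
    exact Subgroup.commutator_mem_commutator (Subgroup.mem_top g) (Subgroup.mem_top x))
  let f₂ : ℕ → Subgroup ↥S := fun i => match i with
    | 0 => ⊥
    | 1 => γ 3
    | 2 => γ 2
    | 3 => γ 1
    | _ => K1
  obtain ⟨α, hα, hagree₂, -⟩ := Internal.exists_extension hs.hS hs.hF (L := ⊤)
    (⟨up_le K1, fun Q _ => by
      rw [card_normalizerIn_up, hK1n, Subgroup.card_top]
      exact card_le_of_le le_rfl (normalizerIn_le S Q)⟩ : F.IsFullyNormalized (up K1))
    hβ₁ hβ₁r hr₂ f₂ 4 rfl rfl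
    (by
      intro i hi
      interval_cases i
      exacts [bot_le, hlle (by norm_num), hlle one_le_two, le_sup_right])
    (by
      intro i hi
      interval_cases i
      · show Nat.card (γ 3) ≤ p * Nat.card (⊥ : Subgroup ↥S)
        rw [hcard 3 (by norm_num), Subgroup.card_bot, mul_one, show 4 - 3 = 1 from rfl, pow_one]
      · show Nat.card (γ 2) ≤ p * Nat.card (γ 3)
        rw [hcard 3 (by norm_num), hcard 2 one_le_two, show 4 - 3 = 1 from rfl, pow_one,
          show 4 - 2 = 2 from rfl, sq]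
      · show Nat.card (γ 1) ≤ p * Nat.card (γ 2)
        rw [hcard 2 one_le_two, hcard 1 le_rfl, ← pow_succ']
      · show Nat.card K1 ≤ p * Nat.card (γ 1)
        rw [hK1, h.card_sup' le_rfl (by norm_num), hcard 1 le_rfl, ← pow_succ'])
    (by
      intro i hi y hy
      interval_cases i
      · rw [show y = 1 from Subtype.ext (Subgroup.mem_bot.1 hy), map_one]
        exact (f₂ 0).one_mem
      · rw [← ev_apply _ y.2, hev₂ _ (Subgroup.mem_sup_right (hlle (by norm_num) hy))]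
        exact hβ3 _ hy
      · rw [← ev_apply _ y.2]; exact hβ₁2 _ hy
      · rw [← ev_apply _ y.2]; exact hβ₁1 _ hy
      · exact (β₁ y).2)
    (by
      intro g hg i hi y hy
      interval_cases i
      · rw [Subgroup.mem_bot.1 hy, mul_one, mul_inv_cancel]; exact (f₂ 0).one_mem
      · exact (inferInstance : (γ 3).Normal).conj_mem y hy g
      · exact (inferInstance : (γ 2).Normal).conj_mem y hy g
      · exact (inferInstance : (γ 1).Normal).conj_mem y hy g
      · exact (Subgroup.mem_normalizer_iff.1 hg y).1 hy)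
    hK1n
  have hev : ∀ y ∈ E, ev α y = ev (q ^ p ^ k) y := fun y hy => by
    rw [ev_of_agree (le_top : K1 ≤ ⊤) hagree₂ (hK21 (hEK2 hy)), hev₂ y (hEK2 hy), hev₁ y hy]
  refine ⟨α, hα, ?_, by rw [hev c hcE, hqc']⟩
  rw [hev x hxE]
  exact hqx'.mono ((hlle (by norm_num : 1 ≤ 3)).trans (MaxClass.lcs_one_le_layerCent 1))

/-- `C_3 ≀ C_3` is no image of `S` if all its subgroups are generated by two elements. -/
theorem no_wreath_of_rank_two {G : Type*} [Group G]
    (h : ∀ H : Subgroup G, ∃ T : Finset G, T.card ≤ 2 ∧ Subgroup.closure (T : Set G) = H) :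
    ¬ ∃ f : G →* Yoshida.C 3 ≀ᵣ Yoshida.C 3, Function.Surjective f := by
  classical
  rintro ⟨f, hf⟩
  let B : Subgroup (Yoshida.C 3 ≀ᵣ Yoshida.C 3) :=
    (RegularWreathProduct.rightHom : Yoshida.C 3 ≀ᵣ Yoshida.C 3 →* Yoshida.C 3).ker
  obtain ⟨T, hT, hTH⟩ := h (B.comap f)
  obtain ⟨a, b, hab⟩ : ∃ a b : G, T ⊆ {a, b} := by
    rcases (show T.card = 0 ∨ T.card = 1 ∨ T.card = 2 by omega) with h0 | h1 | h2
    · exact ⟨1, 1, by rw [Finset.card_eq_zero.1 h0]; exact Finset.empty_subset _⟩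
    · obtain ⟨a, rfl⟩ := Finset.card_eq_one.1 h1
      exact ⟨a, a, by simp⟩
    · obtain ⟨a, b, -, rfl⟩ := Finset.card_eq_two.1 h2
      exact ⟨a, b, subset_rfl⟩
  have hBc : ∀ u ∈ B, ∀ v ∈ B, Commute u v := by
    intro u hu v hv
    have hu' : u.right = 1 := hu
    have hv' : v.right = 1 := hv
    refine RegularWreathProduct.ext ?_ (by simp [hu', hv'])
    funext z
    simp [RegularWreathProduct.mul_left, hu', hv', mul_comm]
  have hmemB : ∀ y ∈ T, f y ∈ B := fun y hy =>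
    (hTH.le (Subgroup.subset_closure hy) : y ∈ B.comap f)
  set a' := if a ∈ T then f a else 1
  set b' := if b ∈ T then f b else 1
  have ha' : a' ∈ B := by
    show (if a ∈ T then f a else 1) ∈ B
    split_ifs with hh
    exacts [hmemB a hh, one_mem _]
  have hb' : b' ∈ B := by
    show (if b ∈ T then f b else 1) ∈ B
    split_ifs with hh
    exacts [hmemB b hh, one_mem _]
  have hle : B ≤ Subgroup.zpowers a' ⊔ Subgroup.zpowers b' := by
    intro u hu
    obtain ⟨g, rfl⟩ := hf u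
    have hg : g ∈ Subgroup.closure (T : Set G) := hTH.ge hu
    refine (Subgroup.closure_le (K := (Subgroup.zpowers a' ⊔ Subgroup.zpowers b').comap f)).2 ?_ hg
    intro y hy
    have hy' := hab hy
    simp only [Finset.mem_insert, Finset.mem_singleton] at hy'
    rcases hy' with rfl | rfl
    · exact Subgroup.mem_sup_left (by rw [show f y = a' from (if_pos hy).symm]; exact Subgroup.mem_zpowers _)
    · exact Subgroup.mem_sup_right (by rw [show f y = b' from (if_pos hy).symm]; exact Subgroup.mem_zpowers _)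
  let F' : ↥(Subgroup.zpowers a') × ↥(Subgroup.zpowers b') → (Yoshida.C 3 ≀ᵣ Yoshida.C 3) := fun uv => uv.1 * uv.2
  have hsurj : (B : Set (Yoshida.C 3 ≀ᵣ Yoshida.C 3)) ⊆ Set.range F' := fun u hu => by
    obtain ⟨v, hv, w, hw, rfl⟩ := MaxClassRankThree.mem_sup_comm (fun v hv w hw =>
      hBc v (Subgroup.zpowers_le.2 ha' hv) w (Subgroup.zpowers_le.2 hb' hw)) (hle hu)
    exact ⟨(⟨v, hv⟩, ⟨w, hw⟩), rfl⟩
  have hord : ∀ u ∈ B, Nat.card (Subgroup.zpowers u) ≤ 3 := by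
    intro u hu
    rw [Nat.card_zpowers]
    refine Nat.le_of_dvd (by norm_num) (orderOf_dvd_of_pow_eq_one ?_)
    have hu' : u.right = 1 := hu
    refine RegularWreathProduct.ext (funext fun z => ?_) (by simp [pow_three, hu'])
    have h3 : ∀ y : Yoshida.C 3, y * (y * y) = 1 := by decide
    simp [pow_three, RegularWreathProduct.mul_left, hu', h3]
  have h9 : Nat.card B ≤ 9 := by
    have : Finite (Yoshida.C 3 ≀ᵣ Yoshida.C 3) := Finite.of_injective
      (fun w : Yoshida.C 3 ≀ᵣ Yoshida.C 3 => (w.left, w.right)) fun u v huv =>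
      RegularWreathProduct.ext (Prod.ext_iff.1 huv).1 (Prod.ext_iff.1 huv).2
    calc Nat.card B ≤ Nat.card ↥(Set.range F') := Nat.card_mono (Set.toFinite _) hsurj
      _ ≤ _ := Finite.card_range_le F'
      _ ≤ 3 * 3 := by rw [Nat.card_prod]; exact Nat.mul_le_mul (hord _ ha') (hord _ hb')
  have h27 : 27 ≤ Nat.card B := by
    have : Finite (Yoshida.C 3 ≀ᵣ Yoshida.C 3) := Finite.of_injective
      (fun w : Yoshida.C 3 ≀ᵣ Yoshida.C 3 => (w.left, w.right)) fun u v huv =>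
      RegularWreathProduct.ext (Prod.ext_iff.1 huv).1 (Prod.ext_iff.1 huv).2
    have hinj := Nat.card_le_card_of_injective
      (fun v : Yoshida.C 3 → Yoshida.C 3 => (⟨⟨v, 1⟩, rfl⟩ : ↥B))
      (fun u v huv => congrArg (fun w : ↥B => (w : Yoshida.C 3 ≀ᵣ Yoshida.C 3).left) huv)
    rwa [Nat.card_fun, Yoshida.card_C] at hinj
  omega

/-- The conclusion for an elementary abelian essential subgroup of order `p²`. -/
theorem Sq.result (hs : Sq p F E) (hp7 : p ≠ 7) :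
    p = 3 ∧ HasFixedCoset F ∧ ¬ ∃ f : ↥S →* Yoshida.C p ≀ᵣ Yoshida.C p, Function.Surjective f := by
  have hp := (Fact.out : p.Prime)
  obtain ⟨x, h⟩ := hs.exists_shape
  obtain ⟨s, hf⟩ := h.exists_frame
  have hn : (3 : ℕ) ≤ 5 := by norm_num
  have hbot : γ 4 = ⊥ := Pearl.lcs_high hn h.hG (by norm_num)
  have hxΓ : x ∉ MaxClass.layerCent ↥S 1 := h.not_mem le_rfl one_le_two
  haveI hΓn : (MaxClass.layerCent ↥S 1).Normal := ⟨fun a ha g => by
    rw [show g * a * g⁻¹ = ⁅g, a⁆ * a by simp only [commutatorElement_def]; group]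
    refine mul_mem (MaxClass.lcs_one_le_layerCent 1 ?_) ha
    rw [Subgroup.top_lowerCentralSeries_one, _root_.commutator_def]
    exact Subgroup.commutator_mem_commutator (Subgroup.mem_top _) (Subgroup.mem_top _)⟩
  set c := MaxClass.Frame.seq s x 3 with hc
  have hc1 : c ≠ 1 := fun h1 => h.seq_not_mem' hf le_rfl (by rw [← hc, h1]; exact one_mem _)
  have hcE : c ∈ E := by
    rw [h.hE]
    refine Subgroup.mem_sup_right ?_
    have := hf.seq_mem 3
    rwa [MaxClass.layer_pos (by norm_num : 1 ≤ 3)] at this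
  obtain ⟨j, q₀, hj⟩ := exists_half (p := p) hs.hp2
  obtain ⟨q, hq, hqx, hqc⟩ := hs.exists_torus_E h hf hj
  obtain ⟨α, -, hαx, hαc⟩ := hs.extend_torus h hf hq hqx hqc
  obtain ⟨ξ, σ, hξ, -, hσ, -, hcξ⟩ := h.weights hf hs.noab α
  have hd1 : (p : ℤ) ∣ ξ - -(j : ℤ) := hξ.exp hαx (by rw [h.xp]; exact one_mem _) hxΓ
  have hd2 : (p : ℤ) ∣ σ * ξ ^ 3 - -2 :=
    dvd_sub_of_eq (hs.pow c hcE) hc1 (hcξ.symm.trans hαc)
  have h63 : (p : ℤ) ∣ 63 := by
    have hj' : (2 : ℤ) * j = 1 + p * q₀ := by exact_mod_cast hj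
    have hu : (p : ℤ) ∣ 2 * ξ + 1 := by
      have := dvd_add (dvd_mul_of_dvd_right hd1 2) (dvd_mul_right (p : ℤ) (-(q₀ : ℤ)))
      rwa [show 2 * (ξ - -(j : ℤ)) + (p : ℤ) * -(q₀ : ℤ) = 2 * ξ + 1 by linear_combination hj'] at this
    have h5 : (p : ℤ) ∣ ξ ^ 5 + 2 := by
      have := dvd_sub hd2 (dvd_mul_of_dvd_left hσ (ξ ^ 3))
      rwa [show σ * ξ ^ 3 - -2 - (σ - ξ ^ 2) * ξ ^ 3 = ξ ^ 5 + 2 by ring] at this
    have := dvd_sub (dvd_mul_of_dvd_right h5 32) (dvd_mul_of_dvd_left hu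
      ((2 * ξ) ^ 4 - (2 * ξ) ^ 3 + (2 * ξ) ^ 2 - 2 * ξ + 1))
    rwa [show 32 * (ξ ^ 5 + 2) - (2 * ξ + 1) *
      ((2 * ξ) ^ 4 - (2 * ξ) ^ 3 + (2 * ξ) ^ 2 - 2 * ξ + 1) = 63 by ring] at this
  obtain rfl : p = 3 := by
    have h1 : p ∣ 3 * (3 * 7) := Int.natCast_dvd_natCast.1 (show (p : ℤ) ∣ ((63 : ℕ) : ℤ) from h63)
    rcases hp.dvd_mul.1 h1 with h2 | h2
    · exact (Nat.prime_dvd_prime_iff_eq hp Nat.prime_three).1 h2
    rcases hp.dvd_mul.1 h2 with h3 | h3
    · exact (Nat.prime_dvd_prime_iff_eq hp Nat.prime_three).1 h3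
    · exact absurd ((Nat.prime_dvd_prime_iff_eq hp (by norm_num : (7 : ℕ).Prime)).1 h3) hp7
  refine ⟨rfl, ⟨γ 1, inferInstance, fun a b => ?_, s, hf.nmem, fun α _ => ?_⟩, ?_⟩
  · rw [Subgroup.top_lowerCentralSeries_one, _root_.commutator_def]
    exact Subgroup.commutator_mem_commutator (Subgroup.mem_top a) (Subgroup.mem_top b)
  · obtain ⟨ξ, σ, -, hs', hσ, hξ0, -⟩ := h.weights hf hs.noab α
    have hσ1 : (3 : ℤ) ∣ σ - 1 := by
      have hξ2 : (3 : ℤ) ∣ ξ ^ 2 - 1 := by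
        have hξ0' : ¬ (3 : ℤ) ∣ ξ := hξ0
        rw [sq, Int.dvd_iff_emod_eq_zero, Int.sub_emod, Int.mul_emod]
        rcases (show ξ % 3 = 1 ∨ ξ % 3 = 2 by omega) with h1 | h1 <;> rw [h1] <;> norm_num
      have := dvd_add (show (3 : ℤ) ∣ σ - ξ ^ 2 from hσ) hξ2
      rwa [show σ - ξ ^ 2 + (ξ ^ 2 - 1) = σ - 1 by ring] at this
    have := hs'.congr (p := 3) (b := 1) (MaxClass.pow_prime_mem_lcs_one (n := 5) hn h.hG h.hcl s) hσ1
    rw [Cg, zpow_one] at this
    exact this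
  · refine no_wreath_of_rank_two fun H => ?_
    rcases ((⟨by norm_num, h.hG, h.hcl, h.xp, h.cardC⟩ : Pearl.Three.Setting ↥S 5 x)).rank_two H with
      hT | ⟨h4, -⟩
    · exact hT
    · omega

end Cfsg.Agent.Fusion.OrderFive
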