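import Cfsg.Agent.Lib.Fusion.OrderFive.Basic
import Cfsg.Agent.Lib.Pearl.SelfCentralizing
import Cfsg.Agent.Lib.MaxClass.Degree

/-!
A group of order `p⁵` with a self-centralizing elementary abelian subgroup `E` of order `p²`: it has
maximal class and `E = ⟨x⟩ γ₄`; the normalizers above `E` and the weights of an automorphism.
-/

set_option autoImplicit false
set_option linter.unusedSectionVars false

namespace Cfsg.Agent.Fusion.OrderFive

open Subgroup Cfsg.Agent Cfsg.Agent.MaxClass Cfsg.Agent.Fusion.MaxClassRankThree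
open scoped commutatorElement

variable {G : Type*} [Group G] [Finite G] {p : ℕ} [Fact p.Prime]

local notation "γ" => Subgroup.lowerCentralSeries (⊤ : Subgroup G)

/-- The shape of a self-centralizing elementary abelian subgroup of order `p²`. -/
structure Shape2 (p : ℕ) (E : Subgroup G) (x : G) : Prop where
  hG : Nat.card G = p ^ 5
  hcl : (⊤ : Subgroup G).lowerCentralSeries 3 ≠ ⊥
  hx : x ∈ E
  xp : x ^ p = 1
  cardC : Nat.card (centralizer ({x} : Set G)) = p ^ 2
  hE : E = zpowers x ⊔ (⊤ : Subgroup G).lowerCentralSeries 3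

variable {E : Subgroup G} {x : G}

theorem mem_normalizer_of_gen {N : Subgroup G} [N.Normal] {K : Subgroup G} (hK : K = zpowers x ⊔ N)
    {g : G} (h : g * x * g⁻¹ ∈ K) : g ∈ normalizer (K : Set G) := by
  refine mem_normalizer_iff_map_conj_eq.2 (eq_of_le_of_card_ge ?_
    (by rw [card_map_of_injective (MulAut.conj g).injective]))
  conv_lhs => rw [hK, Subgroup.map_sup]
  refine sup_le ?_ ?_
  · rw [MonoidHom.map_zpowers, zpowers_le]
    exact h
  · rintro _ ⟨a, ha, rfl⟩
    exact hK ▸ mem_sup_right ((inferInstance : N.Normal).conj_mem a ha g)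

namespace Shape2

theorem not_mem (h : Shape2 p E x) {k : ℕ} (hk : 1 ≤ k) (hk2 : k ≤ 2) : x ∉ layerCent G k :=
  uniform_not_mem_layerCent (n := 5) (by norm_num) h.hG h.hcl h.cardC hk (by omega)

theorem not_mem_lcs (h : Shape2 p E x) {j : ℕ} (hj : 1 ≤ j) : x ∉ γ j := fun hx =>
  h.not_mem le_rfl one_le_two (lcs_one_le_layerCent 1 (MaxClass.lcs_le hj hx))

theorem card_lcs' (h : Shape2 p E x) {j : ℕ} (hj : 1 ≤ j) : Nat.card (γ j) = p ^ (4 - j) :=
  Pearl.card_lcs (n := 5) (by norm_num) h.hG h.hcl hj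

theorem card_sup' (h : Shape2 p E x) {j : ℕ} (hj : 1 ≤ j) (hj3 : j ≤ 4) :
    Nat.card ↥(zpowers x ⊔ γ j) = p ^ (5 - j) := by
  rw [sup_comm, PGroup.card_sup_zpowers (p := p) _ (h.not_mem_lcs hj) (by rw [h.xp]; exact one_mem _),
    h.card_lcs' hj, ← pow_succ]
  congr 1
  omega

theorem inf_lcs (h : Shape2 p E x) {j : ℕ} (hj : 1 ≤ j) {a : G} (ha : a ∈ zpowers x ⊔ γ j)
    (ha1 : a ∈ γ 1) : a ∈ γ j := by
  obtain ⟨v, hv, w, hw, rfl⟩ := mem_sup_of_normal_right.1 ha
  obtain ⟨i, rfl⟩ := mem_zpowers_iff.1 hv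
  have h1 : x ^ i ∈ γ 1 := by
    have := mul_mem ha1 (inv_mem (MaxClass.lcs_le hj hw))
    rwa [mul_inv_cancel_right] at this
  rw [MaxClass.zpow_eq_one_of_mem h.xp (h.not_mem_lcs le_rfl) h1, one_mul]
  exact hw

theorem card_layerCent (h : Shape2 p E x) : Nat.card (layerCent G 1) = p ^ 4 := by
  have hidx := index_layerCent (n := 5) (by norm_num) h.hG h.hcl le_rfl (by norm_num : 1 + 1 ≤ 5 - 2)
  have hΓ := (layerCent G 1).card_mul_index
  rw [hidx, h.hG, pow_succ p 4] at hΓ
  exact Nat.eq_of_mul_eq_mul_right (Fact.out : p.Prime).pos hΓ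

theorem sup_top (h : Shape2 p E x) : zpowers x ⊔ layerCent G 1 = ⊤ := by
  refine eq_top_of_le_card _ ?_
  have := PGroup.mul_card_le_card (IsPGroup.of_card h.hG) (H := layerCent G 1)
    (K := zpowers x ⊔ layerCent G 1) (right_lt_sup.2 fun hh => h.not_mem le_rfl one_le_two (hh (mem_zpowers x)))
  rwa [h.card_layerCent, ← pow_succ', ← h.hG] at this

theorem exists_frame (h : Shape2 p E x) : ∃ s, Frame p 5 s x := by
  have hlt : γ 1 < layerCent G 1 := lt_of_le_of_ne (lcs_one_le_layerCent 1) fun he => by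
    have h1 := h.card_layerCent
    rw [← he, h.card_lcs' le_rfl] at h1
    have := Nat.pow_right_injective (Fact.out : p.Prime).two_le h1
    omega
  obtain ⟨s, hs, hs'⟩ := SetLike.exists_of_lt hlt
  have htop : zpowers s ⊔ γ 1 = layerCent G 1 := by
    refine eq_of_le_of_card_ge (sup_le (zpowers_le.2 hs) (lcs_one_le_layerCent 1)) ?_
    have h1 := PGroup.mul_card_le_card (IsPGroup.of_card h.hG) (H := γ 1) (K := zpowers s ⊔ γ 1)
      (right_lt_sup.2 fun hh => hs' (hh (mem_zpowers s)))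
    rwa [h.card_lcs' le_rfl, ← pow_succ', show 4 - 1 + 1 = 4 from rfl, ← h.card_layerCent] at h1
  refine ⟨s, h.cardC, hs, hs', ?_, htop⟩
  rw [Set.pair_comm]
  refine closure_pair_eq_top (n := 5) (by norm_num) h.hG h.hcl (h.not_mem_lcs le_rfl) fun hh => ?_
  have heq : layerCent G 1 = zpowers x ⊔ γ 1 := eq_of_le_of_card_ge
    (htop ▸ sup_le (zpowers_le.2 hh) le_sup_right)
    (by rw [h.card_sup' le_rfl (by norm_num), h.card_layerCent])
  exact h.not_mem le_rfl one_le_two (heq ▸ mem_sup_left (mem_zpowers x))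

theorem le_normalizer_sup (h : Shape2 p E x) (j : ℕ) :
    zpowers x ⊔ γ j ≤ normalizer ((zpowers x ⊔ γ (j + 1) : Subgroup G) : Set G) := by
  refine sup_le ((le_sup_left : zpowers x ≤ _).trans le_normalizer) fun w hw => mem_normalizer_of_gen rfl ?_
  rw [show w * x * w⁻¹ = ⁅w, x⁆ * x by simp only [commutatorElement_def]; group]
  exact mul_mem (mem_sup_right (Pearl.lcs_succ_mem hw x)) (mem_sup_left (mem_zpowers x))

theorem seq_not_mem' (h : Shape2 p E x) {s : G} (hf : Frame p 5 s x) {i : ℕ} (hi : i ≤ 3) :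
    Frame.seq s x i ∉ γ (i + 1) :=
  hf.seq_not_mem (by norm_num) h.hG h.hcl hi

/-- The normalizers above `E`. -/
theorem normalizer_sup (h : Shape2 p E x) {j : ℕ} (hj : 1 ≤ j) (hj2 : j ≤ 2) :
    normalizer ((zpowers x ⊔ γ (j + 1) : Subgroup G) : Set G) = zpowers x ⊔ γ j := by
  have hp := (Fact.out : p.Prime)
  have hP := IsPGroup.of_card h.hG
  obtain ⟨s, hf⟩ := h.exists_frame
  set H := normalizer ((zpowers x ⊔ γ (j + 1) : Subgroup G) : Set G) with hH
  set L := zpowers x ⊔ γ j with hL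
  have hle : L ≤ H := h.le_normalizer_sup j
  -- conjugating `x` falls in the layer `j + 1`
  have hconj : ∀ g ∈ H, ⁅g, x⁆ ∈ γ (j + 1) := fun g hg => by
    refine h.inf_lcs (by omega) ?_ ?_
    · rw [commutatorElement_def]
      exact mul_mem ((mem_normalizer_iff.1 hg x).1 (mem_sup_left (mem_zpowers x)))
        (inv_mem (mem_sup_left (mem_zpowers x)))
    · rw [top_lowerCentralSeries_one, _root_.commutator_def]
      exact commutator_mem_commutator (mem_top g) (mem_top x)
  have hs : s ∉ H := fun hs => h.seq_not_mem' hf (i := 1) (by norm_num)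
    (MaxClass.lcs_le (by omega : 1 + 1 ≤ j + 1) (hconj s hs))
  refine (eq_of_le_of_card_ge hle ?_).symm
  by_contra hcard
  push Not at hcard
  have h1 := PGroup.mul_card_le_card hP (lt_of_le_of_ne hle fun he => by rw [he] at hcard; omega)
  rw [h.card_sup' hj (by omega), ← pow_succ'] at h1
  obtain ⟨M, hM, hHM⟩ := (eq_top_or_exists_le_coatom H).resolve_left fun he => hs (he ▸ mem_top s)
  have hMi := PGroup.index_of_isCoatom hP hM
  have hMc : Nat.card M = p ^ 4 := by
    have h2 := M.card_mul_index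
    rw [hMi, h.hG, pow_succ p 4] at h2
    exact Nat.eq_of_mul_eq_mul_right hp.pos h2
  obtain rfl | rfl : j = 1 ∨ j = 2 := by omega
  · have h3 := Subgroup.card_le_of_le hHM
    rw [hMc] at h3
    have h4 := (Nat.pow_le_pow_iff_right hp.one_lt).1 (h1.trans h3)
    omega
  · have heq : H = M := eq_of_le_of_card_ge hHM (by rw [hMc]; exact h1)
    have hγ : γ 1 ≤ H := by
      rw [heq, top_lowerCentralSeries_one]
      exact (PGroup.commutator_le_frattini hP).trans (frattini_le_coatom hM)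
    exact h.seq_not_mem' hf (i := 2) (by norm_num) (hconj _ (hγ (by
      have := hf.seq_mem 1
      rwa [layer_pos le_rfl] at this)))

end Shape2

/-- A self-centralizing elementary abelian subgroup of order `p²` has the shape. -/
theorem exists_shape2 (hG : Nat.card G = p ^ 5) (hE : Nat.card E = p ^ 2) (hexp : ∀ a ∈ E, a ^ p = 1)
    (hC : centralizer (E : Set G) ≤ E) : ∃ x, Shape2 p E x := by
  have hp := (Fact.out : p.Prime)
  have hP := IsPGroup.of_card hG
  have hcl : (⊤ : Subgroup G).lowerCentralSeries 3 ≠ ⊥ :=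
    Pearl.lcs_ne_bot_of_selfCentralizing 5 G hG E hE hC (by norm_num)
  obtain ⟨x, hx, hxZ⟩ : ∃ x ∈ E, x ∉ center G := by
    by_contra hcon
    push Not at hcon
    have htop : E = ⊤ := top_le_iff.1 fun g _ => hC (mem_centralizer_iff.2 fun e he =>
      (mem_center_iff.1 (hcon e he) g).symm)
    rw [htop, card_top, hG] at hE
    have := Nat.pow_right_injective hp.two_le hE
    omega
  have hCx : centralizer ({x} : Set G) = E := le_antisymm
    (Pearl.centralizer_singleton_le hP hE hC hx hxZ)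
    fun e he => mem_centralizer_singleton_iff.2 (Pearl.comm_of_card_sq E hE e he x hx)
  have hγ : γ 3 ≤ center G := lcs_top_le_center (n := 5) (by norm_num) hG
  have hle : zpowers x ⊔ γ 3 ≤ E :=
    sup_le (zpowers_le.2 hx) (hγ.trans ((center_le_centralizer _).trans hC))
  refine ⟨x, hG, hcl, hx, hexp x hx, by rw [hCx, hE], (eq_of_le_of_card_ge hle ?_).symm⟩
  have h1 := PGroup.mul_card_le_card hP (H := γ 3) (K := zpowers x ⊔ γ 3)
    (right_lt_sup.2 fun hh => hxZ (hγ (hh (mem_zpowers x))))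
  rwa [Pearl.card_lcs (n := 5) (by norm_num) hG hcl (by norm_num : 1 ≤ 3),
    show 5 - 1 - 3 = 1 from rfl, pow_one, ← sq, ← hE] at h1

end Cfsg.Agent.Fusion.OrderFive
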