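import Cfsg.Agent.Lib.Fusion.OrderFive.RankThreeWeights

/-!
An elementary abelian essential subgroup of order `p³` of `S`, `|S| = p⁵` without an abelian subgroup of
index `p`: then `p = 3`, and a homomorphism of `S` onto an abelian group is fixed by all automorphisms of
the system on an element outside the kernel.
-/

set_option autoImplicit false
set_option linter.unusedSectionVars false
set_option maxHeartbeats 1000000

namespace Cfsg.Agent.Fusion.OrderFive

open Cfsg Cfsg.FusionSystem Cfsg.Agent.Fusion Cfsg.Agent.Fusion.Internal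
open Cfsg.Agent.Fusion.MaxClassRankThree
open scoped commutatorElement

theorem mem_of_commute_mk' {G : Type*} [Group G] {C : Subgroup G} [C.Normal] {a b : G}
    (h : Commute (QuotientGroup.mk' C a) (QuotientGroup.mk' C b)) : ⁅a, b⁆ ∈ C := by
  refine (QuotientGroup.eq_one_iff _).1 ?_
  show QuotientGroup.mk' C ⁅a, b⁆ = 1
  rw [map_commutatorElement]
  exact commutatorElement_eq_one_iff_mul_comm.2 h.eq

theorem exists_cg {G : Type*} [Group G] {x y : G} {A : Subgroup G} [A.Normal]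
    (hy : y ∈ Subgroup.zpowers x ⊔ A) : ∃ i : ℤ, Cg A y x i := by
  obtain ⟨v, hv, a, ha, rfl⟩ := Subgroup.mem_sup_of_normal_right.1 hy
  obtain ⟨i, rfl⟩ := Subgroup.mem_zpowers_iff.1 hv
  exact ⟨i, by show (x ^ i)⁻¹ * (x ^ i * a) ∈ A; rwa [inv_mul_cancel_left]⟩

theorem cg_bot {G : Type*} [Group G] {x x' : G} {a : ℤ} : Cg ⊥ x' x a ↔ x' = x ^ a := by
  show (x ^ a)⁻¹ * x' ∈ (⊥ : Subgroup G) ↔ _
  rw [Subgroup.mem_bot, inv_mul_eq_one]
  exact eq_comm

/-- A quotient of `S` with commutative values, fixed by the automorphisms of the system on some element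
outside its kernel. -/
def HasFixedCoset {Ω : Type*} [Group Ω] {S : Subgroup Ω} (F : FusionSystem S) : Prop :=
  ∃ P : Subgroup ↥S, P.Normal ∧ (∀ a b : ↥S, ⁅a, b⁆ ∈ P) ∧
    ∃ v, v ∉ P ∧ ∀ α ∈ aut F (⊤ : Subgroup ↥S), v⁻¹ * ev α v ∈ P

variable {p : ℕ} [Fact p.Prime]
variable {Ω : Type*} [Group Ω] {S : Subgroup Ω} [Finite S] {F : FusionSystem S}
variable {E N W M : Subgroup ↥S} {g e m c : ↥S}

theorem Data.sup_top (hs : Setup p F E) (hd : Data p E N W M g e m c) :
    Subgroup.zpowers g ⊔ N = ⊤ := by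
  refine Subgroup.eq_top_of_le_card _ ?_
  have := PGroup.mul_card_le_card hs.isPGroup_S
    (right_lt_sup.2 fun h => hd.hg (h (Subgroup.mem_zpowers g)) : N < Subgroup.zpowers g ⊔ N)
  rwa [hd.cardN, ← pow_succ', ← hs.card] at this

/-- A subgroup containing `g`, `e` and `M` is the whole group. -/
theorem Data.eq_top_of_mem (hs : Setup p F E) (hd : Data p E N W M g e m c) {H : Subgroup ↥S}
    (hg : g ∈ H) (he : e ∈ H) (hM : M ≤ H) : H = ⊤ :=
  top_unique ((hd.sup_top hs).ge.trans (sup_le (Subgroup.zpowers_le.2 hg)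
    (hd.spanN.trans (sup_le (Subgroup.zpowers_le.2 he) hM))))

theorem Data.M_comm (hd : Data p E N W M g e m c) : ∀ a ∈ M, ∀ b ∈ M, Commute a b := by
  haveI := hd.normalW
  have h : ∀ a ∈ M, Commute a m := by
    intro a ha
    rw [hd.spanM] at ha
    obtain ⟨v, hv, w, hw, rfl⟩ := Subgroup.mem_sup_of_normal_right.1 ha
    obtain ⟨i, rfl⟩ := Subgroup.mem_zpowers_iff.1 hv
    exact ((Commute.refl m).zpow_left i).mul_left (hd.hWN w hw m (hd.hMN hd.hmM))
  intro a ha b hb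
  have hb' := hb
  rw [hd.spanM] at hb'
  obtain ⟨v, hv, w, hw, rfl⟩ := Subgroup.mem_sup_of_normal_right.1 hb'
  obtain ⟨i, rfl⟩ := Subgroup.mem_zpowers_iff.1 hv
  exact ((h a ha).zpow_right i).mul_right (hd.hWN w hw a (hd.hMN ha)).symm

theorem Data.base (hs : Setup p F E) (hd : Data p E N W M g e m c) {α : MulAut ↥(⊤ : Subgroup ↥S)}
    {a a' : ℤ} (hw : Weights α W e c a a') :
    ∃ γ : ℤ, Cg N (ev α g) g γ ∧ Cg W (ev α m) m (γ * a) ∧ (p : ℤ) ∣ a * (γ * a) - a' := by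
  haveI := hd.normalW
  haveI := hd.normalN
  obtain ⟨γ, hγ⟩ := exists_cg ((hd.sup_top hs).ge (Subgroup.mem_top (ev α g)))
  have hμ : Cg W (ev α m) m (γ * a) := by
    have h := Cg.comm (N := W) (A := N) (B := W) hγ hw.he
      (by rw [← hd.hm]; exact comm_mem_symm (hd.hSM m hd.hmM g))
      (by rw [← hd.hm]; exact comm_mem_symm (hd.hSM m hd.hmM e))
      (fun n hn => Subgroup.zpowers_le.2 hd.hcW (hd.hNN n hn e hd.e_mem))
      (fun l hl => conj_mem_iff_comm l hl g)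
      (fun n _ l hl => comm_mem_symm (conj_mem_iff_comm l hl n))
    rwa [← ev_comm α (Subgroup.mem_top g) (Subgroup.mem_top e), ← hd.hm] at h
  have hcomm : ∀ {x y : ↥S}, Commute x y → ⁅x, y⁆ ∈ (⊥ : Subgroup ↥S) := fun h =>
    Subgroup.mem_bot.2 (commutatorElement_eq_one_iff_mul_comm.2 h.eq)
  have hc' : Cg ⊥ (ev α c) c (a * (γ * a)) := by
    have h := Cg.comm (N := (⊥ : Subgroup ↥S)) (A := W) (B := W) hw.he hμ
      (by rw [← hd.hc]; exact hcomm (hd.hWN c hd.hcW e hd.e_mem))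
      (by rw [← hd.hc]; exact hcomm (hd.hWN c hd.hcW m (hd.hMN hd.hmM)))
      (fun w hwW => hcomm (hd.hWN w hwW m (hd.hMN hd.hmM)))
      (fun w hwW => hcomm (hd.hWN w hwW e hd.e_mem))
      (fun w hwW l hl => hcomm (hd.hWN w hwW l (hd.hMN (hd.hWM hl))))
    rwa [← ev_comm α (Subgroup.mem_top e) (Subgroup.mem_top m), ← hd.hc] at h
  exact ⟨γ, hγ, hμ, hc'.exp hw.hc (Subgroup.mem_bot.2 (hs.pow c hd.c_mem))
    fun h => hd.hc1 (Subgroup.mem_bot.1 h)⟩

/-- Replace `g` by an element centralizing `m`. -/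
theorem Data.exists_comm (hs : Setup p F E) (hd : Data p E N W M g e m c) :
    ∃ g', Data p E N W M g' e m c ∧ Commute g' m := by
  haveI := hd.normalW
  haveI := hd.normalN
  haveI := hd.normal_zpowers
  obtain ⟨j, q₀, hj⟩ := exists_half (p := p) hs.hp2
  obtain ⟨⟨q, hq, hqw⟩, -⟩ := hs.exists_weights_E hd hj
  obtain ⟨α, -, hw⟩ := hs.extend_weights hd hq hqw
  obtain ⟨γ, hγ, hμ, hdvd⟩ := hd.base hs hw
  have hd' : ⁅g, m⁆ ∈ W := hd.hSM m hd.hmM g
  have hC : ⁅g, m⁆ ∈ Subgroup.zpowers c := by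
    by_contra hcon
    have h := Cg.comm (N := Subgroup.zpowers c) (A := N) (B := W) hγ hμ
      (comm_mem_symm (hd.hSW _ hd' g)) (comm_mem_symm (hd.hSW _ hd' m))
      (fun n hn => hd.hNN n hn m (hd.hMN hd.hmM))
      (fun l hl => comm_mem_symm (hd.hSW l hl g))
      (fun n _ l hl => hd.hSW l hl n)
    rw [← ev_comm α (Subgroup.mem_top g) (Subgroup.mem_top m)] at h
    have h1 := h.exp (p := p) (hw.hw _ hd')
      (by rw [hs.pow _ (hd.hWE hd')]; exact one_mem _) hcon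
    have h3 : (p : ℤ) ∣ 2 := by
      have h4 := dvd_add (dvd_mul_of_dvd_left h1 (-1 : ℤ)) (dvd_mul_of_dvd_left hdvd (γ - 1))
      rw [show (γ * (γ * (-1)) - 1) * -1 + (-1 * (γ * (-1)) - -1) * (γ - 1) = 2 * (γ * γ) by ring] at h4
      rcases (Nat.prime_iff_prime_int.1 (Fact.out : p.Prime)).dvd_or_dvd h4 with h5 | h5
      · exact h5
      · have h6 : (p : ℤ) ∣ γ := ((Nat.prime_iff_prime_int.1 (Fact.out : p.Prime)).dvd_or_dvd h5).elim id id
        have h7 := dvd_sub hdvd (dvd_mul_of_dvd_left h6 1)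
        rw [show -1 * (γ * -1) - -1 - γ * 1 = (1 : ℤ) by ring] at h7
        exact h7.trans (one_dvd 2)
    have := Int.natCast_dvd_natCast.1 (show (p : ℤ) ∣ ((2 : ℕ) : ℤ) from h3)
    exact hs.hp2 ((Nat.prime_dvd_prime_iff_eq (Fact.out : p.Prime) Nat.prime_two).1 this)
  obtain ⟨i, hi⟩ := Subgroup.mem_zpowers_iff.1 hC
  have he : ∀ k : ℤ, Commute (e ^ k) e := fun k => (Commute.refl e).zpow_left k
  have hme : Commute ⁅e, m⁆ e := by
    rw [← hd.hc]; exact hd.hWN c hd.hcW e hd.e_mem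
  have hmm : Commute ⁅e, m⁆ m := by
    rw [← hd.hc]; exact hd.hWN c hd.hcW m (hd.hMN hd.hmM)
  have hem : ⁅e ^ (-i), m⁆ = c ^ (-i) := by
    have := comm_zpow hme hmm (-i) 1
    rwa [zpow_one, mul_one, ← hd.hc] at this
  refine ⟨g * e ^ (-i), { hd with hg := fun h => hd.hg ?_, hm := ?_ }, ?_⟩
  · have := mul_mem h (inv_mem (zpow_mem hd.e_mem (-i)))
    rwa [mul_inv_cancel_right] at this
  · rw [show ⁅g * e ^ (-i), e⁆ = g * ⁅e ^ (-i), e⁆ * g⁻¹ * ⁅g, e⁆ by
      simp only [commutatorElement_def]; group,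
      commutatorElement_eq_one_iff_mul_comm.2 (he _).eq, mul_one, mul_inv_cancel, one_mul, ← hd.hm]
  · refine commutatorElement_eq_one_iff_mul_comm.1 ?_
    rw [show ⁅g * e ^ (-i), m⁆ = g * ⁅e ^ (-i), m⁆ * g⁻¹ * ⁅g, m⁆ by
      simp only [commutatorElement_def]; group, hem, ← hi,
      Subgroup.mem_center_iff.1 (zpow_mem hd.hcc (-i)) g, mul_inv_cancel_right, ← zpow_add,
      neg_add_cancel, zpow_zero]

theorem Data.exists_f (hs : Setup p F E) (hd : Data p E N W M g e m c) (hgm : Commute g m) :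
    ∃ f ∈ W, ⁅g, f⁆ ≠ 1 := by
  haveI := hd.normalW
  by_contra hcon
  push Not at hcon
  have hgM : ∀ a ∈ M, Commute g a := by
    intro a ha
    rw [hd.spanM] at ha
    obtain ⟨v, hv, w, hw, rfl⟩ := Subgroup.mem_sup_of_normal_right.1 ha
    obtain ⟨i, rfl⟩ := Subgroup.mem_zpowers_iff.1 hv
    exact (hgm.zpow_right i).mul_right (commutatorElement_eq_one_iff_mul_comm.1 (hcon w hw))
  haveI := hd.normalM
  refine (hs.noab (Subgroup.zpowers g ⊔ M) fun a ha b hb => ?_).not_ge ?_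
  · obtain ⟨v, hv, w, hw, rfl⟩ := Subgroup.mem_sup_of_normal_right.1 ha
    obtain ⟨v', hv', w', hw', rfl⟩ := Subgroup.mem_sup_of_normal_right.1 hb
    obtain ⟨i, rfl⟩ := Subgroup.mem_zpowers_iff.1 hv
    obtain ⟨i', rfl⟩ := Subgroup.mem_zpowers_iff.1 hv'
    refine Commute.eq ?_
    exact (((Commute.refl g).zpow_zpow i i').mul_right ((hgM w' hw').zpow_left i)).mul_left
      (((hgM w hw).zpow_left i').symm.mul_right (hd.M_comm w hw w' hw'))
  · have := PGroup.mul_card_le_card hs.isPGroup_S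
      (right_lt_sup.2 fun h => hd.hg (hd.hMN (h (Subgroup.mem_zpowers g))) :
        M < Subgroup.zpowers g ⊔ M)
    rwa [hd.cardM, ← pow_succ'] at this

theorem Data.p_eq_three (hs : Setup p F E) (hd : Data p E N W M g e m c) {f : ↥S} (hf : f ∈ W)
    (hgf : ⁅g, f⁆ ≠ 1) : p = 3 := by
  haveI := hd.normalW
  haveI := hd.normalN
  haveI := hd.normal_zpowers
  obtain ⟨j, q₀, hj⟩ := exists_half (p := p) hs.hp2
  obtain ⟨-, q, hq, hqw⟩ := hs.exists_weights_E hd hj
  obtain ⟨α, -, hw⟩ := hs.extend_weights hd hq hqw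
  obtain ⟨γ, hγ, -, hdvd⟩ := hd.base hs hw
  obtain ⟨i, hi⟩ := Subgroup.mem_zpowers_iff.1 (hd.hSW f hf g)
  have hcen : ∀ x : ↥S, Commute ⁅g, f⁆ x := fun x => by
    rw [← hi]
    exact (Subgroup.mem_center_iff.1 (zpow_mem hd.hcc i) x).symm
  have hbot : ∀ {x y : ↥S}, Commute x y → ⁅x, y⁆ ∈ (⊥ : Subgroup ↥S) := fun h =>
    Subgroup.mem_bot.2 (commutatorElement_eq_one_iff_mul_comm.2 h.eq)
  have h := Cg.comm (N := (⊥ : Subgroup ↥S)) (A := N) (B := Subgroup.zpowers c) hγ (hw.hw f hf)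
    (hbot (hcen g)) (hbot (hcen f)) (fun n hn => hbot (hd.hWN f hf n hn).symm)
    (fun l hl => hbot (Subgroup.mem_center_iff.1 (Subgroup.zpowers_le.2 hd.hcc hl) g).symm)
    (fun n _ l hl => hbot (Subgroup.mem_center_iff.1 (Subgroup.zpowers_le.2 hd.hcc hl) n))
  rw [← ev_comm α (Subgroup.mem_top g) (Subgroup.mem_top f)] at h
  have h' : Cg ⊥ (ev α ⁅g, f⁆) ⁅g, f⁆ (-2) := by
    rw [cg_bot, ← hi, ev_zpow α (Subgroup.mem_top c), hw.ev_c, ← zpow_mul, ← zpow_mul, mul_comm]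
  have h1 := h.exp (p := p) h' (Subgroup.mem_bot.2 (by
    rw [← hi, ← zpow_natCast, ← zpow_mul, mul_comm, zpow_mul, zpow_natCast, hs.pow c hd.c_mem,
      one_zpow])) fun h0 => hgf (Subgroup.mem_bot.1 h0)
  have hj' : (2 : ℤ) * j = 1 + p * q₀ := by exact_mod_cast hj
  have h6 : (p : ℤ) ∣ 6 := by
    have h4 := dvd_sub (dvd_mul_of_dvd_left hdvd 4) (dvd_mul_of_dvd_left h1 1)
    have h5 := dvd_sub h4 (dvd_mul_of_dvd_left (dvd_mul_right (p : ℤ) ((q₀ : ℤ) * (1 + 2 * (j : ℤ)))) γ)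
    rw [show ((-(j : ℤ)) * (γ * -(j : ℤ)) - -2) * 4 - (γ * 1 - -2) * 1 -
        (p : ℤ) * ((q₀ : ℤ) * (1 + 2 * (j : ℤ))) * γ = 6 by linear_combination (2 * (j : ℤ) + 1) * γ * hj'] at h5
    exact h5
  rcases (Fact.out : p.Prime).dvd_mul.1
    (show p ∣ 2 * 3 from Int.natCast_dvd_natCast.1 (show (p : ℤ) ∣ ((6 : ℕ) : ℤ) from h6)) with h | h
  · exact absurd ((Nat.prime_dvd_prime_iff_eq (Fact.out : p.Prime) Nat.prime_two).1 h) hs.hp2
  · exact (Nat.prime_dvd_prime_iff_eq (Fact.out : p.Prime) Nat.prime_three).1 h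

/-- The conclusion for an elementary abelian essential subgroup of order `p³`. -/
theorem Setup.result (hs : Setup p F E) :
    p = 3 ∧ HasFixedCoset F ∧ ∃ c : ↥S, Subgroup.center ↥S = Subgroup.zpowers c ∧ c ^ p = 1 ∧
      ∀ x y w : ↥S, ⁅⁅x, y⁆, w⁆ ∈ Subgroup.zpowers c := by
  have hp := (Fact.out : p.Prime)
  obtain ⟨N, W, M, g₀, e, m, c, hd₀⟩ := hs.exists_data
  obtain ⟨g, hd, hgm⟩ := hd₀.exists_comm hs
  obtain ⟨f, hf, hgf⟩ := hd.exists_f hs hgm
  have hp3 := hd.p_eq_three hs hf hgf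
  haveI := hd.normalW
  haveI := hd.normalN
  haveI := hd.normalM
  haveI := hd.normal_zpowers
  set C := Subgroup.zpowers c with hC
  have hcx : ∀ {v : ↥S}, v ∈ C → ∀ x : ↥S, Commute v x := fun {v} hv x =>
    (Subgroup.mem_center_iff.1 (Subgroup.zpowers_le.2 hd.hcc hv) x).symm
  have hmC : m ∉ C := fun h => hd.hmE (hd.hWE (Subgroup.zpowers_le.2 hd.hcW h))
  -- the elements of `M` are central modulo `⟨c⟩`
  have hMc : ∀ a ∈ M, ∀ x : ↥S, ⁅a, x⁆ ∈ C := by
    intro a ha x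
    refine mem_of_commute_mk' ?_
    have htop : (Subgroup.centralizer {QuotientGroup.mk' C a}).comap (QuotientGroup.mk' C) = ⊤ := by
      refine hd.eq_top_of_mem hs ?_ ?_ fun b hb => ?_
      all_goals rw [Subgroup.mem_comap, Subgroup.mem_centralizer_singleton_iff]
      · rw [hd.spanM] at ha
        obtain ⟨v, hv, w, hw, rfl⟩ := Subgroup.mem_sup_of_normal_right.1 ha
        obtain ⟨i, rfl⟩ := Subgroup.mem_zpowers_iff.1 hv
        rw [map_mul, map_zpow]
        exact (((hgm.map _).zpow_right i).mul_right (commute_mk' (hd.hSW w hw g))).eq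
      · exact (commute_mk' (hd.hNN e hd.e_mem a (hd.hMN ha))).eq
      · exact ((hd.M_comm b hb a ha).map _).eq
    exact (Subgroup.mem_centralizer_singleton_iff.1
      (Subgroup.mem_comap.1 (htop.ge (Subgroup.mem_top x)))).symm
  set P := Subgroup.zpowers m ⊔ C with hP
  have hCP : C ≤ P := le_sup_right
  have hmP : m ∈ P := Subgroup.mem_sup_left (Subgroup.mem_zpowers m)
  have hPM : P ≤ M := sup_le (Subgroup.zpowers_le.2 hd.hmM) (Subgroup.zpowers_le.2 (hd.hWM hd.hcW))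
  haveI hPn : P.Normal := ⟨fun y hy x => by
    rw [show x * y * x⁻¹ = ⁅y, x⁆⁻¹ * y by simp only [commutatorElement_def]; group]
    exact mul_mem (inv_mem (hCP (hMc y (hPM hy) x))) hy⟩
  have hPg : ∀ a ∈ P, Commute a g := by
    intro a ha
    obtain ⟨v, hv, w, hw, rfl⟩ := Subgroup.mem_sup_of_normal_right.1 ha
    obtain ⟨i, rfl⟩ := Subgroup.mem_zpowers_iff.1 hv
    exact (hgm.symm.zpow_left i).mul_left (hcx hw g)
  have hcomm : ∀ a b : ↥S, ⁅a, b⁆ ∈ P := by
    set π := QuotientGroup.mk' P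
    have hMπ : ∀ a ∈ M, ∀ x : ↥S, Commute (π a) (π x) := fun a ha x => commute_mk' (hCP (hMc a ha x))
    have hge : Commute (π g) (π e) := commute_mk' (hd.hm ▸ hmP)
    have hall : ∀ y : ↥S, y = g ∨ y = e → ∀ x, Commute (π y) (π x) := by
      intro y hy x
      have htop : (Subgroup.centralizer {π y}).comap π = ⊤ := by
        refine hd.eq_top_of_mem hs ?_ ?_ fun b hb => ?_
        all_goals rw [Subgroup.mem_comap, Subgroup.mem_centralizer_singleton_iff]
        · rcases hy with rfl | rfl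
          · rfl
          · exact hge.eq
        · rcases hy with rfl | rfl
          · exact hge.symm.eq
          · rfl
        · exact (hMπ b hb y).eq
      exact (Subgroup.mem_centralizer_singleton_iff.1
        (Subgroup.mem_comap.1 (htop.ge (Subgroup.mem_top x)))).symm
    have htop : (Subgroup.center (↥S ⧸ P)).comap π = ⊤ := by
      refine hd.eq_top_of_mem hs ?_ ?_ fun b hb => ?_
      all_goals rw [Subgroup.mem_comap, Subgroup.mem_center_iff]
      all_goals intro z; obtain ⟨z, rfl⟩ := QuotientGroup.mk'_surjective P z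
      · exact (hall g (Or.inl rfl) z).symm.eq
      · exact (hall e (Or.inr rfl) z).symm.eq
      · exact (hMπ b hb z).symm.eq
    exact fun a b => mem_of_commute_mk'
      (Subgroup.mem_center_iff.1 (Subgroup.mem_comap.1 (htop.ge (Subgroup.mem_top b))) (π a))
  have hclass : ∀ x y w : ↥S, ⁅⁅x, y⁆, w⁆ ∈ C := fun x y w => hMc _ (hPM (hcomm x y)) w
  -- the centre
  have hfC : f ∉ P := fun h => hgf (commutatorElement_eq_one_iff_mul_comm.2 (hPg f h).symm.eq)
  have hzc : Subgroup.center ↥S = C := by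
    refine le_antisymm (fun x hx => ?_) (Subgroup.zpowers_le.2 hd.hcc)
    have hxc : ∀ y, Commute x y := fun y => (Subgroup.mem_center_iff.1 hx y).symm
    have hxE : x ∈ E := hs.mem_of_commute fun a _ => (hxc a).symm
    rw [hd.spanE] at hxE
    obtain ⟨v, hv, w, hw, rfl⟩ := Subgroup.mem_sup_of_normal_right.1 hxE
    obtain ⟨i, rfl⟩ := Subgroup.mem_zpowers_iff.1 hv
    have h1 : e ^ i = 1 := by
      refine MaxClass.zpow_eq_one_of_mem (hs.pow e hd.he) (H := Subgroup.centralizer {m}) (fun h =>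
        hd.hc1 ?_) ?_
      · rw [hd.hc]
        exact commutatorElement_eq_one_iff_mul_comm.2 (Subgroup.mem_centralizer_singleton_iff.1 h)
      · rw [show e ^ i = e ^ i * w * w⁻¹ by rw [mul_inv_cancel_right]]
        exact mul_mem (Subgroup.mem_centralizer_singleton_iff.2 (hxc m).eq)
          (inv_mem (Subgroup.mem_centralizer_singleton_iff.2 (hd.hWN w hw m (hd.hMN hd.hmM)).eq))
    rw [h1, one_mul] at hxc ⊢
    set K := W ⊓ Subgroup.centralizer {g}
    have hK : C = K := by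
      refine Subgroup.eq_of_le_of_card_ge (le_inf (Subgroup.zpowers_le.2 hd.hcW) fun v hv =>
        Subgroup.mem_centralizer_singleton_iff.2 (hcx hv g).eq) ?_
      obtain ⟨k, hk⟩ := PGroup.card_eq_pow hs.isPGroup_S K
      have h2 : Nat.card K < p ^ 2 := by
        rw [← hd.cardW]
        refine Set.Finite.card_lt_card (Set.toFinite _) (lt_of_le_of_ne inf_le_left fun h => hgf ?_)
        have := (h.ge hf).2
        exact commutatorElement_eq_one_iff_mul_comm.2 (Subgroup.mem_centralizer_singleton_iff.1 this).symm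
      rw [Nat.card_zpowers, orderOf_eq_prime (hs.pow c hd.c_mem) hd.hc1, hk]
      rw [hk] at h2
      exact (Nat.pow_le_pow_right hp.pos (Nat.le_of_lt_succ
        ((Nat.pow_lt_pow_iff_right hp.one_lt).1 h2))).trans_eq (pow_one p)
    exact hK.ge ⟨hw, Subgroup.mem_centralizer_singleton_iff.2 (hxc g).eq⟩
  refine ⟨hp3, ⟨P, hPn, hcomm, f, hfC, fun α _ => ?_⟩, c, hzc, hs.pow c hd.c_mem, hclass⟩
  -- the automorphism `α`
  have hmem : ∀ x : ↥S, x ∈ (⊤ : Subgroup ↥S) := Subgroup.mem_top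
  have hec : ev α c ∈ C := by
    rw [hd.hc, hd.hm, ev_comm α (hmem _) (hmem _), ev_comm α (hmem _) (hmem _)]
    exact comm_mem_symm (hclass _ _ _)
  have hCinv : ∀ v ∈ C, ev α v ∈ C := by
    intro v hv
    obtain ⟨i, rfl⟩ := Subgroup.mem_zpowers_iff.1 hv
    rw [ev_zpow α (hmem c)]
    exact zpow_mem hec i
  have hPinv : ∀ v ∈ P, ev α v ∈ P := by
    intro v hv
    obtain ⟨a, ha, w, hw, rfl⟩ := Subgroup.mem_sup_of_normal_right.1 hv
    obtain ⟨i, rfl⟩ := Subgroup.mem_zpowers_iff.1 ha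
    rw [ev_mul α (hmem _) (hmem _), ev_zpow α (hmem m)]
    refine mul_mem (zpow_mem ?_ i) (hCP (hCinv w hw))
    rw [hd.hm, ev_comm α (hmem _) (hmem _)]
    exact hcomm _ _
  set A₀ := Subgroup.zpowers g ⊔ M with hA₀
  have hA₀m : ∀ x ∈ A₀, Commute x m := by
    intro x hx
    obtain ⟨a, ha, w, hw, rfl⟩ := Subgroup.mem_sup_of_normal_right.1 hx
    obtain ⟨i, rfl⟩ := Subgroup.mem_zpowers_iff.1 ha
    exact (hgm.zpow_left i).mul_left (hd.M_comm w hw m hd.hmM)
  have hA₀eq : ∀ x : ↥S, Commute x m → x ∈ A₀ := by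
    have hle : A₀ ≤ Subgroup.centralizer {m} := fun x hx =>
      Subgroup.mem_centralizer_singleton_iff.2 (hA₀m x hx).eq
    have h1 : p ^ 4 ≤ Nat.card A₀ := by
      have := PGroup.mul_card_le_card hs.isPGroup_S
        (right_lt_sup.2 fun h => hd.hg (hd.hMN (h (Subgroup.mem_zpowers g))) : M < A₀)
      rwa [hd.cardM, ← pow_succ'] at this
    obtain ⟨k, hk⟩ := PGroup.card_eq_pow hs.isPGroup_S (Subgroup.centralizer ({m} : Set ↥S))
    have h2 : Nat.card (Subgroup.centralizer ({m} : Set ↥S)) < p ^ 5 := by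
      rw [← hs.card, ← Subgroup.card_top (G := ↥S)]
      refine Set.Finite.card_lt_card (Set.toFinite _) (lt_top_iff_ne_top.2 fun h => hd.hc1 ?_)
      rw [hd.hc]
      exact commutatorElement_eq_one_iff_mul_comm.2
        (Subgroup.mem_centralizer_singleton_iff.1 (h.ge (hmem e)))
    have heq : A₀ = Subgroup.centralizer {m} := by
      refine Subgroup.eq_of_le_of_card_ge hle (le_trans ?_ h1)
      rw [hk] at h2 ⊢
      exact Nat.pow_le_pow_right hp.pos (Nat.le_of_lt_succ ((Nat.pow_lt_pow_iff_right hp.one_lt).1 h2))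
    exact fun x hx => heq.ge (Subgroup.mem_centralizer_singleton_iff.2 hx.eq)
  haveI hA₀n : A₀.Normal := ⟨fun y hy x => by
    rw [show x * y * x⁻¹ = ⁅x, y⁆ * y by simp only [commutatorElement_def]; group]
    exact mul_mem (Subgroup.mem_sup_right (hPM (hcomm x y))) hy⟩
  have hαg : ev α g ∈ A₀ := by
    refine hA₀eq _ ?_
    obtain ⟨y, hy, hym⟩ := exists_ev_eq α le_top hPinv hmP
    rw [← hym]
    refine commutatorElement_eq_one_iff_mul_comm.1 ?_
    rw [← ev_comm α (hmem g) (hmem y), commutatorElement_eq_one_iff_mul_comm.2 (hPg y hy).symm.eq,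
      ev_apply α (hmem 1)]
    exact congrArg Subtype.val (map_one α)
  have hαf : ev α f ∈ M := by
    have hx : ∀ y : ↥S, ⁅ev α f, y⁆ ∈ C := by
      intro y
      obtain ⟨y', -, rfl⟩ := exists_ev_eq α le_top (fun v hv => ev_mem α hv) (hmem y)
      rw [← ev_comm α (hmem f) (hmem y')]
      exact hCinv _ (hMc f (hd.hWM hf) y')
    set M' := (Subgroup.center (↥S ⧸ C)).comap (QuotientGroup.mk' C)
    have hmemM' : ∀ x : ↥S, (∀ y, ⁅x, y⁆ ∈ C) → x ∈ M' := fun x h => by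
      rw [Subgroup.mem_comap, Subgroup.mem_center_iff]
      intro z
      obtain ⟨z, rfl⟩ := QuotientGroup.mk'_surjective C z
      exact (commute_mk' (h z)).symm.eq
    have hgM' : g ∉ M' := fun h => hmC (by
      rw [hd.hm]
      exact mem_of_commute_mk' (Subgroup.mem_center_iff.1 (Subgroup.mem_comap.1 h) _).symm)
    by_contra hcon
    have hlt : M < M' := lt_of_le_of_ne (fun a ha => hmemM' a (hMc a ha))
      fun h => hcon (h.ge (hmemM' _ hx))
    have h1 := PGroup.mul_card_le_card hs.isPGroup_S hlt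
    have h2 := PGroup.mul_card_le_card hs.isPGroup_S
      (right_lt_sup.2 fun h => hgM' (h (Subgroup.mem_zpowers g)) : M' < Subgroup.zpowers g ⊔ M')
    rw [hd.cardM, ← pow_succ'] at h1
    have htop : Subgroup.zpowers g ⊔ M' = ⊤ := Subgroup.eq_top_of_le_card _ (by
      rw [hs.card, pow_succ']
      exact (Nat.mul_le_mul_left p h1).trans h2)
    have hle : Subgroup.zpowers g ⊔ M' ≤
        (Subgroup.centralizer {QuotientGroup.mk' C g}).comap (QuotientGroup.mk' C) := by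
      refine sup_le (Subgroup.zpowers_le.2 ?_) fun a ha => ?_
      · exact Subgroup.mem_centralizer_singleton_iff.2 rfl
      · exact Subgroup.mem_centralizer_singleton_iff.2
          (Subgroup.mem_center_iff.1 (Subgroup.mem_comap.1 ha) _).symm
    exact hmC (by
      rw [hd.hm]
      exact mem_of_commute_mk'
        (Subgroup.mem_centralizer_singleton_iff.1 (hle (htop.ge (hmem e)))).symm)
  have hMP : M = Subgroup.zpowers f ⊔ P := by
    refine (Subgroup.eq_of_le_of_card_ge (sup_le (Subgroup.zpowers_le.2 (hd.hWM hf)) hPM) ?_).symm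
    have h1 := PGroup.mul_card_le_card hs.isPGroup_S
      (right_lt_sup.2 fun h => hmC (h (Subgroup.mem_zpowers m)) : C < P)
    have h2 := PGroup.mul_card_le_card hs.isPGroup_S
      (right_lt_sup.2 fun h => hfC (h (Subgroup.mem_zpowers f)) : P < Subgroup.zpowers f ⊔ P)
    rw [Nat.card_zpowers, orderOf_eq_prime (hs.pow c hd.c_mem) hd.hc1] at h1
    rw [hd.cardM, pow_succ', sq]
    exact (Nat.mul_le_mul_left p h1).trans h2
  obtain ⟨γ, hγ⟩ := exists_cg (x := g) (A := M) hαg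
  obtain ⟨ε, hε⟩ := exists_cg (x := e) (A := A₀) (y := ev α e)
    ((hd.eq_top_of_mem hs (H := Subgroup.zpowers e ⊔ A₀)
      (Subgroup.mem_sup_right (Subgroup.mem_sup_left (Subgroup.mem_zpowers g)))
      (Subgroup.mem_sup_left (Subgroup.mem_zpowers e))
      (le_sup_right.trans' le_sup_right)).ge (hmem _))
  obtain ⟨φ, hφ⟩ := exists_cg (x := f) (A := P) (hMP.le hαf)
  have hbot : ∀ {x y : ↥S}, Commute x y → ⁅x, y⁆ ∈ (⊥ : Subgroup ↥S) := fun h =>
    Subgroup.mem_bot.2 (commutatorElement_eq_one_iff_mul_comm.2 h.eq)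
  have hμ : Cg C (ev α m) m (γ * ε) := by
    have h := Cg.comm (N := C) (A := M) (B := A₀) hγ hε
      (by rw [← hd.hm]; exact hMc m hd.hmM g) (by rw [← hd.hm]; exact hMc m hd.hmM e)
      (fun a ha => hMc a ha e)
      (fun l hl => by
        obtain ⟨v, hv, w, hw, rfl⟩ := Subgroup.mem_sup_of_normal_right.1 hl
        obtain ⟨i, rfl⟩ := Subgroup.mem_zpowers_iff.1 hv
        refine mem_of_commute_mk' ?_
        rw [map_mul, map_zpow]
        exact ((Commute.refl _).zpow_left i).mul_left (commute_mk' (hMc w hw g)))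
      (fun a ha l _ => hMc a ha l)
    rwa [← ev_comm α (hmem g) (hmem e), ← hd.hm] at h
  have hlam : Cg ⊥ (ev α c) c (ε * (γ * ε)) := by
    have h := Cg.comm (N := (⊥ : Subgroup ↥S)) (A := A₀) (B := C) hε hμ
      (by rw [← hd.hc]; exact hbot (hcx (Subgroup.mem_zpowers c) e))
      (by rw [← hd.hc]; exact hbot (hcx (Subgroup.mem_zpowers c) m))
      (fun l hl => hbot (hA₀m l hl)) (fun l hl => hbot (hcx hl e))
      (fun a _ l hl => hbot (hcx hl a).symm)
    rwa [← ev_comm α (hmem e) (hmem m), ← hd.hc] at h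
  obtain ⟨i, hi⟩ := Subgroup.mem_zpowers_iff.1 (hd.hSW f hf g)
  have hgfC : ⁅g, f⁆ ∈ C := hd.hSW f hf g
  have hwt : Cg ⊥ (ev α ⁅g, f⁆) ⁅g, f⁆ (γ * φ) := by
    have h := Cg.comm (N := (⊥ : Subgroup ↥S)) (A := M) (B := P) hγ hφ
      (hbot (hcx hgfC g)) (hbot (hcx hgfC f))
      (fun a ha => hbot (hd.M_comm a ha f (hd.hWM hf))) (fun l hl => hbot (hPg l hl))
      (fun a ha l hl => hbot (hd.M_comm a ha l (hPM hl)))
    rwa [← ev_comm α (hmem g) (hmem f)] at h
  have hwt' : Cg ⊥ (ev α ⁅g, f⁆) ⁅g, f⁆ (ε * (γ * ε)) := by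
    rw [cg_bot, ← hi, ev_zpow α (hmem c), cg_bot.1 hlam, ← zpow_mul, ← zpow_mul, mul_comm]
  have hgfp : ⁅g, f⁆ ^ p ∈ (⊥ : Subgroup ↥S) := Subgroup.mem_bot.2 (by
    rw [← hi, ← zpow_natCast, ← zpow_mul, mul_comm, zpow_mul, zpow_natCast, hs.pow c hd.c_mem, one_zpow])
  have hdvd := hwt.exp (p := p) hwt' hgfp fun h0 => hgf (Subgroup.mem_bot.1 h0)
  have hne : ¬ (p : ℤ) ∣ ε * (γ * ε) := fun h => hgf (by
    refine ev_injective α (hmem _) (hmem _) ?_
    rw [cg_bot.1 (hwt'.congr hgfp (b := 0) (by rwa [sub_zero])), zpow_zero, ev_apply α (hmem 1)]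
    exact (congrArg Subtype.val (map_one α)).symm)
  subst hp3
  have hε3 : ¬ (3 : ℤ) ∣ ε := fun h => hne (dvd_mul_of_dvd_left h _)
  have hγ3 : ¬ (3 : ℤ) ∣ γ := fun h => hne (dvd_mul_of_dvd_right (dvd_mul_of_dvd_left h _) _)
  have hφ3 : (3 : ℤ) ∣ φ - 1 := by
    have hε2 : (3 : ℤ) ∣ ε * ε - 1 := by
      rw [Int.dvd_iff_emod_eq_zero, Int.sub_emod, Int.mul_emod]
      rcases (show ε % 3 = 1 ∨ ε % 3 = 2 by omega) with h | h <;> rw [h] <;> norm_num
    have h1 : (3 : ℤ) ∣ γ * (φ - 1) := by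
      have h2 := dvd_add (show (3 : ℤ) ∣ γ * φ - ε * (γ * ε) from hdvd) (dvd_mul_of_dvd_right hε2 γ)
      rwa [show γ * φ - ε * (γ * ε) + γ * (ε * ε - 1) = γ * (φ - 1) by ring] at h2
    exact (Int.prime_three.dvd_or_dvd h1).resolve_left hγ3
  have := hφ.congr (p := 3) (b := 1)
    (by rw [hs.pow f (hd.hWE hf)]; exact one_mem _) hφ3
  rw [Cg, zpow_one] at this
  exact this

end Cfsg.Agent.Fusion.OrderFive
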