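import Cfsg.Agent.Lib.Fusion.OrderFive.Basic
import Cfsg.Agent.Lib.Fusion.TransvectionGroups

/-!
An elementary abelian essential subgroup of order `p³` in a group of order `p⁵` without an abelian
subgroup of index `p`: the normalizer has order `p⁴`, and the structure of the group around it.
-/

set_option autoImplicit false
set_option linter.unusedSectionVars false

namespace Cfsg.Agent.Fusion.OrderFive

open Cfsg Cfsg.FusionSystem Cfsg.Agent.Fusion Cfsg.Agent.Fusion.Internal
open Cfsg.Agent.Fusion.MaxClassRankThree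
open scoped commutatorElement

variable {p : ℕ} [Fact p.Prime]

theorem card_sup_zpowers' {G : Type*} [Group G] [Finite G] {H : Subgroup G} [H.Normal] {x : G}
    (hx : x ∉ H) (hxp : x ^ p ∈ H) : Nat.card ↥(Subgroup.zpowers x ⊔ H) = Nat.card H * p := by
  rw [sup_comm]
  exact PGroup.card_sup_zpowers H hx hxp

theorem card_comap_mk'' {G : Type*} [Group G] {N : Subgroup G} [N.Normal] (A : Subgroup (G ⧸ N)) :
    Nat.card (A.comap (QuotientGroup.mk' N)) = Nat.card A * Nat.card N :=
  (Nat.card_congr (QuotientGroup.preimageMkEquivSubgroupProdSet N _)).trans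
    ((Nat.card_prod _ _).trans (mul_comm _ _))

/-- A normal elementary subgroup of order `p³` contains a central line in a normal plane. -/
theorem exists_flag {G : Type*} [Group G] [Finite G] (hG : IsPGroup p G) (E : Subgroup G) [hEn : E.Normal]
    (hE : Nat.card E = p ^ 3) :
    ∃ W : Subgroup G, W.Normal ∧ W ≤ E ∧ Nat.card W = p ^ 2 ∧
      ∃ z ∈ W, z ≠ 1 ∧ z ∈ Subgroup.center G := by
  have hp := (Fact.out : p.Prime)
  have hne : E ≠ ⊥ := fun h => by
    rw [h, Subgroup.card_bot] at hE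
    exact (Nat.one_lt_pow three_ne_zero hp.one_lt).ne hE
  obtain ⟨z, hzE, hzc, hzo⟩ := PGroup.exists_orderOf_eq_mem_center hG E hne
  set Z := Subgroup.zpowers z with hZ
  have hZn : Z.Normal := ⟨fun a ha g => by
    rwa [Subgroup.mem_center_iff.1 (Subgroup.zpowers_le.2 hzc ha) g, mul_inv_cancel_right]⟩
  have hZE : Z ≤ E := Subgroup.zpowers_le.2 hzE
  set π := QuotientGroup.mk' Z
  have hEn' : (E.map π).Normal := hEn.map π (QuotientGroup.mk'_surjective Z)
  have hne' : E.map π ≠ ⊥ := by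
    rw [Ne, Subgroup.map_eq_bot_iff, QuotientGroup.ker_mk']
    intro h
    have := Subgroup.card_le_of_le h
    rw [hE, hZ, Nat.card_zpowers, hzo] at this
    have := (Nat.pow_le_pow_iff_right hp.one_lt).1 (this.trans (pow_one p).ge)
    omega
  obtain ⟨w, hwE, hwc, hwo⟩ := PGroup.exists_orderOf_eq_mem_center (hG.to_quotient Z) _ hne'
  have hwn : (Subgroup.zpowers w).Normal := ⟨fun a ha g => by
    rwa [Subgroup.mem_center_iff.1 (Subgroup.zpowers_le.2 hwc ha) g, mul_inv_cancel_right]⟩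
  refine ⟨(Subgroup.zpowers w).comap π, hwn.comap π, ?_, ?_, z, ?_, ?_, hzc⟩
  · refine (Subgroup.comap_mono (Subgroup.zpowers_le.2 hwE)).trans ?_
    rw [Subgroup.comap_map_eq, QuotientGroup.ker_mk', sup_eq_left.2 hZE]
  · have h2 := card_comap_mk'' (N := Z) (Subgroup.zpowers w)
    rw [h2, Nat.card_zpowers, hwo, sq, show Nat.card Z = p by rw [hZ, Nat.card_zpowers, hzo]]
  · rw [Subgroup.mem_comap, show π z = 1 from mk'_eq_one (Subgroup.mem_zpowers z)]
    exact one_mem _
  · intro h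
    rw [h, orderOf_one] at hzo
    exact hp.ne_one hzo.symm

variable {Ω : Type*} [Group Ω] {S : Subgroup Ω} [Finite S] {F : FusionSystem S}

/-- The hypotheses. -/
structure Setup (p : ℕ) (F : FusionSystem S) (E : Subgroup ↥S) : Prop where
  hS : IsPGroup p S
  hF : F.IsSaturated p
  hp2 : p ≠ 2
  card : Nat.card ↥S = p ^ 5
  noab : ∀ A : Subgroup ↥S, (∀ a ∈ A, ∀ b ∈ A, a * b = b * a) → Nat.card A < p ^ 4
  ess : F.IsEssential p (up E)
  cardE : Nat.card E = p ^ 3
  comm : ∀ a ∈ E, ∀ b ∈ E, a * b = b * a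
  pow : ∀ a ∈ E, a ^ p = 1
  self : Subgroup.centralizer (E : Set ↥S) ≤ E

theorem Setup.mem_of_commute {E : Subgroup ↥S} (h : Setup p F E) {g : ↥S}
    (hg : ∀ a ∈ E, Commute a g) : g ∈ E :=
  h.self (Subgroup.mem_centralizer_iff.2 hg)

theorem Setup.card_aut_le {E : Subgroup ↥S} (hc : Setup p F E) :
    Nat.card (autInducedBy S (up E)) ≤ p := by
  classical
  have hES : up E ≤ S := up_le E
  have hab : IsMulCommutative ↥(up E) := ⟨⟨fun a b => Subtype.ext
    (congrArg Subtype.val (hc.comm _ (mk_mem a.2) _ (mk_mem b.2)) :)⟩⟩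
  have hexp : ∀ a : ↥(up E), a ^ p = 1 := fun a => Subtype.ext
    (congrArg Subtype.val (hc.pow _ (mk_mem a.2)) :)
  set N := Subgroup.normalizer (E : Set ↥S)
  have hEN : E ≤ N := Subgroup.le_normalizer
  have : (E.subgroupOf N).Normal := Subgroup.normal_in_normalizer
  obtain ⟨W₀, hW₀n, hW₀E, hW₀c, z, hzW, hz1, hzc⟩ := exists_flag
    ((IsPGroup.of_card hc.card).to_subgroup N) (E.subgroupOf N)
    (by rw [Nat.card_congr (Subgroup.subgroupOfEquivOfLe hEN).toEquiv, hc.cardE])
  have hfin := finite_of_le (Ω := Ω) hES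
  have hfinA := finite_mulAut (Ω := Ω) hES
  obtain ⟨-, hfn, hI, Y, -, hYne, P, hY⟩ := hc.ess
  have hIbot : Inn ↥(up E) = ⊥ := SmallEss.inn_eq_bot hab
  let ι : (F.autGroup (up E) ⧸ (Inn ↥(up E)).subgroupOf (F.autGroup (up E))) →* MulAut ↥(up E) :=
    QuotientGroup.lift _ (F.autGroup (up E)).subtype fun a ha => by
      rw [MonoidHom.mem_ker]
      rw [Subgroup.mem_subgroupOf, hIbot, Subgroup.mem_bot] at ha
      exact ha
  have hι : Function.Injective ι := by
    intro a b
    refine QuotientGroup.induction_on a fun a => ?_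
    refine QuotientGroup.induction_on b fun b hab' => ?_
    exact congrArg _ (Subtype.ext hab')
  obtain ⟨-, R, hR⟩ := isFullyAutomized_of_fullyNormalized hc.hS hc.hF hfn
  let π := QuotientGroup.mk' ((Inn ↥(up E)).subgroupOf (F.autGroup (up E)))
  have hπ : Function.Surjective π := QuotientGroup.mk'_surjective _
  obtain ⟨y, hy⟩ := MulAction.exists_smul_eq
    (↥(F.autGroup (up E)) ⧸ (Inn ↥(up E)).subgroupOf (F.autGroup (up E))) (R.mapSurjective hπ) P
  have hconj : ∀ q ∈ (P : Subgroup _), ∃ r ∈ autInducedBy S (up E), ι q = ι y * r * (ι y)⁻¹ := by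
    intro q hq
    rw [← hy, Sylow.coe_subgroup_smul] at hq
    obtain ⟨q', hq', rfl⟩ := Subgroup.mem_smul_pointwise_iff_exists _ _ _ |>.1 hq
    rw [Sylow.coe_mapSurjective] at hq'
    obtain ⟨r, hr, rfl⟩ := hq'
    rw [SetLike.mem_coe, hR, Subgroup.mem_subgroupOf] at hr
    exact ⟨_, hr, by rw [MulAut.smul_def, MulAut.conj_apply, map_mul, map_mul, map_inv]; rfl⟩
  set W : Subgroup ↥S := W₀.map N.subtype with hWdef
  have hWE : W ≤ E := by
    rintro _ ⟨a, ha, rfl⟩
    exact hW₀E ha
  let zU : ↥(up E) := ⟨((z : ↥S) : Ω), coe_mem_up.2 (hWE ⟨z, hzW, rfl⟩)⟩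
  let WU : Subgroup ↥(up E) := (up W).subgroupOf (up E)
  have hWUc : Nat.card WU = p ^ 2 := by
    rw [Nat.card_congr (Subgroup.subgroupOfEquivOfLe (Subgroup.map_mono hWE)).toEquiv, card_up, hWdef,
      Subgroup.card_map_of_injective N.subtype_injective, hW₀c]
  have hcardE : Nat.card ↥(up E) = p ^ 3 := by rw [card_up, hc.cardE]
  have hrW : ∀ r ∈ autInducedBy S (up E), r zU = zU ∧ ∀ a ∈ WU, r a ∈ WU := by
    intro r hr
    obtain ⟨g, hgS, hgx⟩ := mem_autInducedBy_iff.1 hr
    have hgN : (⟨g, hgS⟩ : ↥S) ∈ N := by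
      have h : g ∈ normalizerIn S (up E) := ⟨hgS, mem_normalizer_of_aut hgx⟩
      rw [normalizerIn_up] at h
      exact mk_mem h
    refine ⟨Subtype.ext ((hgx zU).trans ?_), fun a ha => ?_⟩
    · have h := congrArg (fun t : ↥N => ((t : ↥S) : Ω)) (Subgroup.mem_center_iff.1 hzc ⟨_, hgN⟩)
      exact mul_inv_eq_iff_eq_mul.2 h
    · show ((r a : up E) : Ω) ∈ up W
      rw [hgx a]
      obtain ⟨b, hb, hba⟩ := mk_mem (show ((a : up E) : Ω) ∈ up W from ha)
      refine (coe_mem_up (x := ⟨g, hgS⟩ * ⟨a, up_le _ a.2⟩ * (⟨g, hgS⟩)⁻¹)).2 ?_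
      rw [← hba]
      exact ⟨_, hW₀n.conj_mem b hb ⟨_, hgN⟩, rfl⟩
  have hPcard := TransvectionGroups.card_le_of_stronglyEmbedded ι hι (fun a b => hab.is_comm.comm a b)
    hexp hcardE P hY hYne (W := WU.map (ι y).toMonoidHom)
    (by rw [Subgroup.card_map_of_injective (ι y).injective, hWUc]) (z := ι y zU)
    ⟨zU, coe_mem_up.2 ⟨z, hzW, rfl⟩, rfl⟩ (fun h => hz1 (by
      have := (ι y).injective (h.trans (map_one (ι y)).symm)
      refine Subtype.ext (Subtype.ext ?_)
      exact (congrArg Subtype.val this :)))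
    (fun q hq => by
      obtain ⟨r, hr, hrq⟩ := hconj q hq
      rw [hrq, MulAut.mul_apply, MulAut.mul_apply, MulAut.inv_apply_self, (hrW r hr).1])
    (fun q hq => by
      rintro _ ⟨a, ha, rfl⟩
      obtain ⟨r, hr, hrq⟩ := hconj q hq
      refine ⟨r a, (hrW r hr).2 a ha, ?_⟩
      show ι y (r a) = ι q (ι y a)
      rw [hrq, MulAut.mul_apply, MulAut.mul_apply, MulAut.inv_apply_self])
  have h1 : Nat.card (R : Subgroup (F.autGroup (up E))) = Nat.card (autInducedBy S (up E)) := by
    rw [hR]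
    exact Nat.card_congr (Subgroup.subgroupOfEquivOfLe (autInducedBy_le_autGroup F hES)).toEquiv
  rw [← h1]
  have h2 : Nat.card (R : Subgroup (F.autGroup (up E))) = Nat.card (R.mapSurjective hπ).toSubgroup := by
    rw [Sylow.coe_mapSurjective, Subgroup.card_map_of_injective]
    exact fun a b h => Subtype.ext (congrArg ι h)
  rw [h2, (R.mapSurjective hπ).card_eq_multiplicity, ← P.card_eq_multiplicity]
  exact hPcard

theorem Setup.card_normalizer {E : Subgroup ↥S} (hc : Setup p F E) :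
    Nat.card (Subgroup.normalizer (E : Set ↥S)) = p ^ 4 := by
  have hcent : Subgroup.centralizer (E : Set ↥S) = E := le_antisymm hc.self
    fun a ha => Subgroup.mem_centralizer_iff.2 fun b hb => hc.comm b hb a ha
  have h := card_centralizerIn_mul_card_autInducedBy S (up E)
  rw [card_normalizerIn_up, centralizerIn_up, hcent, card_up, hc.cardE] at h
  refine le_antisymm ?_ ?_
  · rw [← h, pow_succ p 3]
    exact Nat.mul_le_mul_left _ hc.card_aut_le
  · have : Group.IsNilpotent ↥S := (IsPGroup.of_card hc.card).isNilpotent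
    have hlt : E < Subgroup.normalizer (E : Set ↥S) := by
      refine Group.normalizerCondition_of_isNilpotent E (lt_top_iff_ne_top.2 fun h5 => ?_)
      have h3 := hc.cardE
      rw [h5, Subgroup.card_top, hc.card] at h3
      have := Nat.pow_right_injective (Fact.out : p.Prime).two_le h3
      omega
    have := PGroup.mul_card_le_card (IsPGroup.of_card hc.card) hlt
    rwa [hc.cardE, ← pow_succ'] at this

/-- The structure of `S` around an elementary abelian essential subgroup of order `p³`. -/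
structure Data (p : ℕ) (E N W M : Subgroup ↥S) (g e m c : ↥S) : Prop where
  hN : N = Subgroup.normalizer (E : Set ↥S)
  cardN : Nat.card N = p ^ 4
  cardM : Nat.card M = p ^ 3
  cardW : Nat.card W = p ^ 2
  normalN : N.Normal
  normalM : M.Normal
  normalW : W.Normal
  hWE : W ≤ E
  hWM : W ≤ M
  hMN : M ≤ N
  he : e ∈ E
  heW : e ∉ W
  hg : g ∉ N
  hm : m = ⁅g, e⁆
  hmM : m ∈ M
  hmE : m ∉ E
  hc : c = ⁅e, m⁆
  hc1 : c ≠ 1
  hcW : c ∈ W
  hcc : c ∈ Subgroup.center ↥S
  hWN : ∀ w ∈ W, ∀ a ∈ N, Commute w a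
  hNN : ∀ a ∈ N, ∀ b ∈ N, ⁅a, b⁆ ∈ Subgroup.zpowers c
  hSW : ∀ w ∈ W, ∀ x : ↥S, ⁅x, w⁆ ∈ Subgroup.zpowers c
  hSM : ∀ a ∈ M, ∀ x : ↥S, ⁅x, a⁆ ∈ W
  spanE : E = Subgroup.zpowers e ⊔ W
  spanM : M = Subgroup.zpowers m ⊔ W
  spanN : N ≤ Subgroup.zpowers e ⊔ M

theorem Setup.exists_data {E : Subgroup ↥S} (hc : Setup p F E) :
    ∃ (N W M : Subgroup ↥S) (g e m c : ↥S), Data p E N W M g e m c := by
  have hp := (Fact.out : p.Prime)
  have hP := IsPGroup.of_card hc.card
  set N := Subgroup.normalizer (E : Set ↥S) with hNdef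
  have hcN := hc.card_normalizer
  have hEN : E ≤ N := Subgroup.le_normalizer
  have hNi : N.index = p := by
    have h := N.card_mul_index
    rw [hcN, hc.card, pow_succ p 4] at h
    exact Nat.eq_of_mul_eq_mul_left (pow_pos hp.pos 4) h
  have hNn : N.Normal := PGroup.normal_of_index_eq hP hNi
  obtain ⟨g, hg⟩ : ∃ g, g ∉ N := by
    by_contra h
    push Not at h
    rw [Subgroup.index_eq_one.2 (eq_top_iff.2 fun x _ => h x)] at hNi
    exact hp.ne_one hNi.symm
  set E' := E.map (MulAut.conj g).toMonoidHom with hE'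
  have hE'N : E' ≤ N := by
    rintro _ ⟨a, ha, rfl⟩
    exact hNn.conj_mem a (hEN ha) g
  have hcE' : Nat.card E' = p ^ 3 := by
    rw [hE', Subgroup.card_map_of_injective (MulAut.conj g).injective, hc.cardE]
  set W := E ⊓ E' with hW
  have hWN : ∀ w ∈ W, ∀ a ∈ N, Commute w a := by
    intro w hw a ha
    have hle : E ⊔ E' ≤ Subgroup.centralizer ({w} : Set ↥S) := sup_le
      (fun b hb => Subgroup.mem_centralizer_singleton_iff.2 (hc.comm b hb w hw.1))
      (by
        rintro _ ⟨b, hb, rfl⟩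
        obtain ⟨b', hb', hw'⟩ := hw.2
        rw [← hw']
        refine Subgroup.mem_centralizer_singleton_iff.2 ?_
        rw [← map_mul, ← map_mul, hc.comm b hb b' hb'])
    have hNle : N ≤ E ⊔ E' := by
      have hlt : E < E ⊔ E' := left_lt_sup.2 fun h => hg (Subgroup.mem_normalizer_iff_map_conj_eq.2
        (Subgroup.eq_of_le_of_card_ge h (le_of_eq (hc.cardE.trans hcE'.symm))))
      refine (Subgroup.eq_of_le_of_card_ge (sup_le hEN hE'N) ?_).ge
      have := PGroup.mul_card_le_card hP hlt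
      rwa [hc.cardE, ← pow_succ', ← hcN] at this
    exact (Subgroup.mem_centralizer_singleton_iff.1 (hle (hNle ha))).symm
  -- `W` has order `p²`
  have hNab : ¬ ∀ a ∈ N, ∀ b ∈ N, a * b = b * a := fun h => (hc.noab N h).ne hcN
  have hWlt : W < E := by
    refine lt_of_le_of_ne inf_le_left fun h => hNab fun a ha b hb => ?_
    have ha' : a ∈ E := hc.mem_of_commute fun v hv => hWN v (h.ge hv) a ha
    exact hWN a (h.ge ha') b hb
  have hWc : Nat.card W = p ^ 2 := by
    obtain ⟨k, hk⟩ := PGroup.card_eq_pow hP W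
    have h1 : Nat.card W < p ^ 3 := hc.cardE ▸ Set.Finite.card_lt_card (Set.toFinite _) hWlt
    have h2 : E.relIndex E' ≤ E.relIndex N := Subgroup.relIndex_le_of_le_right hE'N (by
      intro h0
      have := Subgroup.relIndex_mul_relIndex ⊥ E N bot_le hEN
      rw [h0, mul_zero, Subgroup.relIndex_bot_left, hcN] at this
      exact (pow_pos hp.pos 4).ne this)
    have h3 : E.relIndex N = p := by
      have := Subgroup.relIndex_mul_relIndex ⊥ E N bot_le hEN
      rw [Subgroup.relIndex_bot_left, Subgroup.relIndex_bot_left, hcN, hc.cardE, pow_succ p 3] at this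
      exact Nat.eq_of_mul_eq_mul_left (pow_pos hp.pos 3) this
    have h4 := Subgroup.relIndex_mul_relIndex ⊥ W E' bot_le inf_le_right
    rw [Subgroup.relIndex_bot_left, Subgroup.relIndex_bot_left, hcE', hW, Subgroup.inf_relIndex_right,
      ← hW, hk] at h4
    have h5 : p ^ 3 ≤ p ^ (k + 1) := by
      rw [← h4, pow_succ p k]
      exact Nat.mul_le_mul_left _ (h3 ▸ h2)
    have := (Nat.pow_le_pow_iff_right hp.one_lt).1 h5
    rw [hk] at h1 ⊢
    have := (Nat.pow_lt_pow_iff_right hp.one_lt).1 h1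
    rw [show k = 2 by omega]
  have hCE : ∀ x : ↥S, (∀ a ∈ N, Commute x a) → x ∈ E := fun x hx =>
    hc.mem_of_commute fun v hv => (hx v (hEN hv)).symm
  have hWn : W.Normal := by
    have hCn : (Subgroup.centralizer (N : Set ↥S)).Normal := inferInstance
    suffices h : W = Subgroup.centralizer (N : Set ↥S) by rw [h]; infer_instance
    have hle : W ≤ Subgroup.centralizer (N : Set ↥S) := fun w hw =>
      Subgroup.mem_centralizer_iff.2 fun a ha => (hWN w hw a ha).symm
    have hleE : Subgroup.centralizer (N : Set ↥S) ≤ E := fun x hx =>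
      hCE x fun a ha => (Subgroup.mem_centralizer_iff.1 hx a ha).symm
    obtain ⟨k, hk⟩ := PGroup.card_eq_pow hP (Subgroup.centralizer (N : Set ↥S))
    refine Subgroup.eq_of_le_of_card_ge hle ?_
    have h1 : Nat.card (Subgroup.centralizer (N : Set ↥S)) < p ^ 3 := by
      rw [← hc.cardE]
      refine Set.Finite.card_lt_card (Set.toFinite _) (lt_of_le_of_ne hleE fun h => ?_)
      exact hNab fun a ha b hb => Subgroup.mem_centralizer_iff.1
        (h.ge (hc.mem_of_commute fun v hv => (Subgroup.mem_centralizer_iff.1 (h.ge hv) b hb).symm)) a ha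
    rw [hk] at h1 ⊢
    rw [hWc]
    exact Nat.pow_le_pow_right hp.pos (by have := (Nat.pow_lt_pow_iff_right hp.one_lt).1 h1; omega)
  obtain ⟨e, he, heW⟩ := SetLike.exists_of_lt hWlt
  have hspanE : E = Subgroup.zpowers e ⊔ W := by
    refine (Subgroup.eq_of_le_of_card_ge (sup_le (Subgroup.zpowers_le.2 he) inf_le_left) ?_).symm
    rw [card_sup_zpowers' heW (by rw [hc.pow e he]; exact one_mem _), hWc, hc.cardE, ← pow_succ]
  set m := ⁅g, e⁆ with hm
  have hm1 : g * e * g⁻¹ = m * e := by rw [hm, commutatorElement_def]; group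
  have hmN : m ∈ N := by
    have := mul_mem (hNn.conj_mem e (hEN he) g) (inv_mem (hEN he))
    rwa [hm1, mul_inv_cancel_right] at this
  have hmE : m ∉ E := by
    intro h
    have hle : E' ≤ E := by
      rw [hE', hspanE, Subgroup.map_sup]
      refine sup_le ?_ ?_
      · rw [MonoidHom.map_zpowers, Subgroup.zpowers_le]
        show g * e * g⁻¹ ∈ _
        rw [hm1, ← hspanE]
        exact mul_mem h he
      · rintro _ ⟨w, hw, rfl⟩
        exact Subgroup.mem_sup_right (hWn.conj_mem w hw g)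
    exact hg (Subgroup.mem_normalizer_iff_map_conj_eq.2
      (Subgroup.eq_of_le_of_card_ge hle (le_of_eq (hc.cardE.trans hcE'.symm))))
  set c := ⁅e, m⁆ with hcdef
  have hENr : E.relIndex N = p := by
    have := Subgroup.relIndex_mul_relIndex ⊥ E N bot_le hEN
    rw [Subgroup.relIndex_bot_left, Subgroup.relIndex_bot_left, hcN, hc.cardE, pow_succ p 3] at this
    exact Nat.eq_of_mul_eq_mul_left (pow_pos hp.pos 3) this
  have hspanN : E ⊔ Subgroup.zpowers m = N := by
    refine Subgroup.eq_of_le_of_card_ge (sup_le hEN (Subgroup.zpowers_le.2 hmN)) ?_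
    have := PGroup.mul_card_le_card hP (H := E) (K := E ⊔ Subgroup.zpowers m)
      (left_lt_sup.2 fun h => hmE (h (Subgroup.mem_zpowers m)))
    rwa [hc.cardE, ← pow_succ', ← hcN] at this
  have hgen : N = Subgroup.closure (insert e (insert m (W : Set ↥S))) := by
    rw [← hspanN, hspanE, Set.insert_eq, Subgroup.closure_union, Set.insert_eq, Subgroup.closure_union,
      ← Subgroup.zpowers_eq_closure, ← Subgroup.zpowers_eq_closure, Subgroup.closure_eq, sup_assoc,
      sup_comm W]
  have hc1 : c ≠ 1 := by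
    intro h
    refine hmE (hc.mem_of_commute fun v hv => ?_)
    rw [hspanE] at hv
    obtain ⟨a, ha, w, hw, rfl⟩ := Subgroup.mem_sup_of_normal_right.1 hv
    obtain ⟨i, rfl⟩ := Subgroup.mem_zpowers_iff.1 ha
    have h' : Commute e m := commutatorElement_eq_one_iff_mul_comm.1 h
    exact (h'.zpow_left i).mul_left (hWN w hw m hmN)
  have hcN' : ∀ a ∈ N, ∀ b ∈ N, ⁅a, b⁆ ∈ W := by
    have h1 : ∀ {A : Subgroup ↥S}, A ≤ N → A.relIndex N = p → N ≤ Subgroup.normalizer (A : Set ↥S) →
        ∀ a ∈ N, ∀ b ∈ N, ⁅a, b⁆ ∈ A := by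
      intro A hAN hAi hn a ha b hb
      haveI hAn : (A.subgroupOf N).Normal := Subgroup.normal_subgroupOf_of_le_normalizer hn
      haveI hcyc : IsCyclic (↥N ⧸ A.subgroupOf N) := isCyclic_of_prime_card (p := p)
        (by rw [← Subgroup.index_eq_card]; exact hAi)
      let π := QuotientGroup.mk' (A.subgroupOf N)
      have h : π ⁅(⟨a, ha⟩ : ↥N), ⟨b, hb⟩⁆ = 1 := by
        rw [map_commutatorElement, commutatorElement_eq_one_iff_mul_comm]
        exact @mul_comm _ (IsCyclic.commGroup.toCommMonoid.toCommSemigroup.toCommMagma) _ _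
      exact ((QuotientGroup.eq_one_iff (⁅(⟨a, ha⟩ : ↥N), ⟨b, hb⟩⁆ : ↥N)).1 h :)
    intro a ha b hb
    refine ⟨h1 hEN hENr le_rfl a ha b hb, h1 hE'N ?_ ?_ a ha b hb⟩
    · have := Subgroup.relIndex_mul_relIndex ⊥ E' N bot_le hE'N
      rw [Subgroup.relIndex_bot_left, Subgroup.relIndex_bot_left, hcN, hcE', pow_succ p 3] at this
      exact Nat.eq_of_mul_eq_mul_left (pow_pos hp.pos 3) this
    · intro x hx
      refine Subgroup.mem_normalizer_iff_map_conj_eq.2 ?_
      have hy : g⁻¹ * x * g ∈ N := by simpa using hNn.conj_mem x hx g⁻¹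
      rw [hE', Subgroup.map_map]
      conv_rhs => rw [← Subgroup.mem_normalizer_iff_map_conj_eq.1 hy, Subgroup.map_map]
      congr 1
      ext v
      simp [mul_assoc]
  have hcW : c ∈ W := hcN' e (hEN he) m hmN
  have hNN : ∀ a ∈ N, ∀ b ∈ N, ⁅a, b⁆ ∈ Subgroup.zpowers c := by
    set K : Subgroup ↥N := (Subgroup.zpowers c).subgroupOf N with hK
    have hKn : K.Normal := ⟨fun k hk x => by
      rw [hK, Subgroup.mem_subgroupOf] at hk ⊢
      obtain ⟨i, hi⟩ := Subgroup.mem_zpowers_iff.1 hk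
      rw [Subgroup.coe_mul, Subgroup.coe_mul, Subgroup.coe_inv, ← hi,
        ← ((hWN c hcW x x.2).zpow_left i).eq, mul_inv_cancel_right]
      exact zpow_mem (Subgroup.mem_zpowers c) i⟩
    set T : Set ↥N := N.subtype ⁻¹' insert e (insert m (W : Set ↥S)) with hT
    have htop : Subgroup.closure T = ⊤ := by
      refine Subgroup.map_injective N.subtype_injective ?_
      rw [MonoidHom.map_closure, ← MonoidHom.range_eq_map, Subgroup.range_subtype, hT,
        Set.image_preimage_eq_of_subset, ← hgen]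
      rintro x hx
      exact ⟨⟨x, hgen.ge (Subgroup.subset_closure hx)⟩, rfl⟩
    have h := Pearl.commutator_closure_le T T K ?_
    · intro a ha b hb
      rw [htop] at h
      exact h (Subgroup.commutator_mem_commutator (Subgroup.mem_top ⟨a, ha⟩) (Subgroup.mem_top ⟨b, hb⟩))
    intro a ha b hb
    show ⁅(a : ↥S), (b : ↥S)⁆ ∈ Subgroup.zpowers c
    rcases ha with ha | ha | ha <;> rcases hb with hb | hb | hb
    all_goals first
      | (rw [show ⁅(a : ↥S), (b : ↥S)⁆ = 1 from
            commutatorElement_eq_one_iff_mul_comm.2 (hWN (a : ↥S) ha _ b.2).eq]; exact one_mem _)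
      | (rw [show ⁅(a : ↥S), (b : ↥S)⁆ = 1 from
            commutatorElement_eq_one_iff_mul_comm.2 (hWN (b : ↥S) hb _ a.2).symm.eq]; exact one_mem _)
      | skip
    all_goals
      simp only [Subgroup.coe_subtype] at ha hb
      rw [ha, hb]
    · rw [commutatorElement_self]; exact one_mem _
    · exact Subgroup.mem_zpowers c
    · rw [← commutatorElement_inv]; exact inv_mem (Subgroup.mem_zpowers c)
    · rw [commutatorElement_self]; exact one_mem _
  have hcp : c ^ p = 1 := hc.pow c hcW.1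
  have hCn : (Subgroup.zpowers c).Normal := by
    suffices h : Subgroup.zpowers c = ⁅N, N⁆ by rw [h]; infer_instance
    exact le_antisymm (Subgroup.zpowers_le.2 (Subgroup.commutator_mem_commutator (hEN he) hmN))
      (Subgroup.commutator_le.2 hNN)
  have hCcard : Nat.card (Subgroup.zpowers c) = p := by
    rw [Nat.card_zpowers, orderOf_eq_prime hcp hc1]
  have hcc : c ∈ Subgroup.center ↥S := Subgroup.mem_center_iff.2 fun x => by
    have := comm_mem_of_step hP (A := ⊥) (B := Subgroup.zpowers c) bot_le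
      (by rw [Subgroup.card_bot, mul_one, hCcard]) (g := x) (Subgroup.mem_zpowers c)
    exact commutatorElement_eq_one_iff_mul_comm.1 (Subgroup.mem_bot.1 this)
  have hSW : ∀ w ∈ W, ∀ x : ↥S, ⁅x, w⁆ ∈ Subgroup.zpowers c := fun w hw x =>
    comm_mem_of_step hP (Subgroup.zpowers_le.2 hcW) (by rw [hWc, hCcard, sq]) hw
  -- the normal subgroup of order `p³` between `W` and `N`
  obtain ⟨M, hMn, hWM, hMN, hMc⟩ : ∃ M : Subgroup ↥S, M.Normal ∧ W ≤ M ∧ M ≤ N ∧ Nat.card M = p ^ 3 := by
    set π := QuotientGroup.mk' W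
    have hne : N.map π ≠ ⊥ := by
      rw [Ne, Subgroup.map_eq_bot_iff, QuotientGroup.ker_mk']
      exact fun h => hmE (h hmN).1
    have := hNn.map π (QuotientGroup.mk'_surjective W)
    obtain ⟨w, hw, hwc, hwo⟩ := PGroup.exists_orderOf_eq_mem_center (hP.to_quotient W) _ hne
    have hwn : (Subgroup.zpowers w).Normal := ⟨fun a ha x => by
      rwa [Subgroup.mem_center_iff.1 (Subgroup.zpowers_le.2 hwc ha) x, mul_inv_cancel_right]⟩
    refine ⟨(Subgroup.zpowers w).comap π, hwn.comap π, ?_, ?_, ?_⟩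
    · conv_lhs => rw [← QuotientGroup.ker_mk' W]
      exact π.ker_le_comap _
    · refine (Subgroup.comap_mono (Subgroup.zpowers_le.2 hw)).trans ?_
      rw [Subgroup.comap_map_eq, QuotientGroup.ker_mk', sup_eq_left.2 (inf_le_left.trans hEN)]
    · rw [card_comap_mk'' (N := W) (Subgroup.zpowers w), Nat.card_zpowers, hwo, hWc, ← pow_succ']
  have hmM : m ∈ M :=
    comm_mem_of_step hP hMN (by rw [hMc, hcN, ← pow_succ']) (hEN he)
  refine ⟨N, W, M, g, e, m, c, rfl, hcN, hMc, hWc, hNn, hMn, hWn, inf_le_left, hWM, hMN, he, heW, hg,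
    rfl, hmM, hmE, rfl, hc1, hcW, hcc, hWN, hNN, hSW,
    fun a ha x => comm_mem_of_step hP hWM (by rw [hMc, hWc, ← pow_succ']) ha, hspanE, ?_, ?_⟩
  · refine (Subgroup.eq_of_le_of_card_ge (sup_le (Subgroup.zpowers_le.2 hmM) hWM) ?_).symm
    have := PGroup.mul_card_le_card hP (H := W) (K := Subgroup.zpowers m ⊔ W)
      (right_lt_sup.2 fun h => hmE (inf_le_left (a := E) (b := E') (h (Subgroup.mem_zpowers m))))
    rwa [hWc, ← pow_succ', ← hMc] at this
  · rw [← hspanN, hspanE]
    exact sup_le (sup_le_sup_left hWM _) (Subgroup.zpowers_le.2 (Subgroup.mem_sup_right hmM))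

end Cfsg.Agent.Fusion.OrderFive
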