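import Cfsg.Agent.Lib.Fusion.OrderFive.RankThreeData
import Cfsg.Agent.Lib.Fusion.TransvectionPair

/-!
The inversion and the torus element of the automiser of an elementary abelian essential subgroup of
order `p³`, extended to automorphisms of `S`.
-/

set_option autoImplicit false
set_option linter.unusedSectionVars false
set_option maxHeartbeats 1000000

namespace Cfsg.Agent.Fusion.OrderFive

open Cfsg Cfsg.FusionSystem Cfsg.Agent.Fusion Cfsg.Agent.Fusion.Internal
open Cfsg.Agent.Fusion.MaxClassRankThree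
open scoped commutatorElement

variable {p : ℕ} [Fact p.Prime]
variable {Ω : Type*} [Group Ω] {S : Subgroup Ω} [Finite S] {F : FusionSystem S}
variable {E N W M : Subgroup ↥S} {g e m c : ↥S}

/-- An automorphism acting with exponent `a` on `E / W`, `a'` on `⟨c⟩` and trivially on `W / ⟨c⟩`. -/
structure Weights {K : Subgroup ↥S} (q : MulAut ↥K) (W : Subgroup ↥S) (e c : ↥S) (a a' : ℤ) : Prop where
  he : Cg W (ev q e) e a
  hc : Cg ⊥ (ev q c) c a'
  hw : ∀ w ∈ W, Cg (Subgroup.zpowers c) (ev q w) w 1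

theorem Weights.ev_c {K : Subgroup ↥S} {q : MulAut ↥K} {a a' : ℤ} (h : Weights q W e c a a') :
    ev q c = c ^ a' := (inv_mul_eq_one.1 (Subgroup.mem_bot.1 h.hc)).symm

theorem Data.normal_zpowers (hd : Data p E N W M g e m c) : (Subgroup.zpowers c).Normal :=
  ⟨fun a ha x => by
    rwa [Subgroup.mem_center_iff.1 (Subgroup.zpowers_le.2 hd.hcc ha) x, mul_inv_cancel_right]⟩

theorem Data.e_mem (hd : Data p E N W M g e m c) : e ∈ N :=
  hd.hN ▸ Subgroup.le_normalizer hd.he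

theorem Data.E_le (hd : Data p E N W M g e m c) : E ≤ N := hd.hN ▸ Subgroup.le_normalizer

theorem Data.c_mem (hd : Data p E N W M g e m c) : c ∈ E := hd.hWE hd.hcW

theorem Weights.W_inv {K : Subgroup ↥S} {q : MulAut ↥K} {a a' : ℤ} (h : Weights q W e c a a')
    (hcW : c ∈ W) : ∀ w ∈ W, ev q w ∈ W := fun w hw => by
  have h1 := mul_mem hw (Subgroup.zpowers_le.2 hcW (h.hw w hw))
  rwa [zpow_one, mul_inv_cancel_left] at h1

theorem Weights.C_inv {K : Subgroup ↥S} {q : MulAut ↥K} {a a' : ℤ} (h : Weights q W e c a a')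
    (hcK : c ∈ K) : ∀ v ∈ Subgroup.zpowers c, ev q v ∈ Subgroup.zpowers c := by
  intro v hv
  obtain ⟨i, rfl⟩ := Subgroup.mem_zpowers_iff.1 hv
  rw [ev_zpow q hcK, h.ev_c]
  exact zpow_mem (zpow_mem (Subgroup.mem_zpowers c) _) _

theorem Weights.of_eq {K L : Subgroup ↥S} {q : MulAut ↥K} {β : MulAut ↥L} {a a' : ℤ}
    (h : Weights q W e c a a') (he : e ∈ K) (hc : c ∈ K) (hW : W ≤ K)
    (hev : ∀ x ∈ K, ev β x = ev q x) : Weights β W e c a a' :=
  ⟨by rw [hev e he]; exact h.he, by rw [hev c hc]; exact h.hc,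
    fun w hw => by rw [hev w (hW hw)]; exact h.hw w hw⟩

theorem Setup.isPGroup_S {E : Subgroup ↥S} (hs : Setup p F E) : IsPGroup p ↥S := IsPGroup.of_card hs.card

theorem Setup.pSubgroup_le (hs : Setup p F E) {B : Subgroup (MulAut ↥E)} (hB : B ≤ aut F E)
    (hBp : IsPGroup p B) : Nat.card B ≤ p := by
  let cg := (MulAut.congr (upEquiv E)).toMonoidHom
  have hcg : Function.Injective cg := (MulAut.congr (upEquiv E)).injective
  obtain ⟨-, R, hR⟩ := isFullyAutomized_of_fullyNormalized hs.hS hs.hF hs.ess.2.1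
  have hfin := finite_mulAut (Ω := Ω) (up_le E)
  have hB' : B.map cg ≤ F.autGroup (up E) := Subgroup.map_le_iff_le_comap.2 hB
  obtain ⟨T, hT⟩ := ((hBp.map cg).of_equiv
    (Subgroup.subgroupOfEquivOfLe hB').symm).exists_le_sylow
  have h1 := Subgroup.card_le_of_le hT
  rw [Nat.card_congr (Subgroup.subgroupOfEquivOfLe hB').toEquiv, Subgroup.card_map_of_injective hcg,
    T.card_eq_multiplicity, ← R.card_eq_multiplicity, hR,
    Nat.card_congr (Subgroup.subgroupOfEquivOfLe (autInducedBy_le_autGroup F (up_le E))).toEquiv] at h1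
  exact h1.trans hs.card_aut_le

theorem exists_not_normalizes (hess : F.IsEssential p (up E)) (hcommE : ∀ a ∈ E, ∀ b ∈ E, a * b = b * a)
    {t : MulAut ↥E} (htA : t ∈ aut F E)
    (htp : t ^ p = 1) (ht1 : t ≠ 1) :
    ∃ f ∈ aut F E, f * t * f⁻¹ ∉ Subgroup.zpowers t := by
  by_contra hcon
  push Not at hcon
  let cg := (MulAut.congr (upEquiv E)).toMonoidHom
  have hcg : Function.Injective cg := (MulAut.congr (upEquiv E)).injective
  have hab : IsMulCommutative ↥(up E) := ⟨⟨fun a b => Subtype.ext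
    (congrArg Subtype.val (hcommE _ (mk_mem a.2) _ (mk_mem b.2)) :)⟩⟩
  have hle := SmallEss.pGroup_le_inn hess (N := Subgroup.zpowers (cg t))
    (Subgroup.zpowers_le.2 htA) (by
      intro a ha b hb
      obtain ⟨i, rfl⟩ := Subgroup.mem_zpowers_iff.1 ha
      have hb' : (MulAut.congr (upEquiv E)).symm b ∈ aut F E := mem_aut_symm hb
      obtain ⟨k, hk⟩ := Subgroup.mem_zpowers_iff.1 (hcon _ hb')
      refine Subgroup.mem_zpowers_iff.2 ⟨k * i, ?_⟩
      have hk' := congrArg cg hk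
      rw [map_zpow, map_mul, map_mul, map_inv,
        show cg ((MulAut.congr (upEquiv E)).symm b) = b from MulEquiv.apply_symm_apply _ b] at hk'
      rw [zpow_mul, hk', conj_zpow])
    (IsPGroup.of_card (n := 1) (by
      rw [pow_one, Nat.card_zpowers, orderOf_eq_prime (by rw [← map_pow, htp, map_one])
        fun h => ht1 (hcg (h.trans (map_one cg).symm))]))
  rw [SmallEss.inn_eq_bot hab] at hle
  exact ht1 (hcg ((Subgroup.mem_bot.1 (hle (Subgroup.mem_zpowers _))).trans (map_one cg).symm))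

/-- The inversion and the torus element on `E`. -/
theorem Setup.exists_weights_E (hs : Setup p F E) (hd : Data p E N W M g e m c) {j q₀ : ℕ}
    (hj : 2 * j = 1 + p * q₀) :
    (∃ q ∈ aut F E, Weights q W e c (-1) (-1)) ∧ ∃ q ∈ aut F E, Weights q W e c (-(j : ℤ)) (-2) := by
  classical
  have hp := (Fact.out : p.Prime)
  letI : CommGroup ↥E :=
    { (inferInstance : Group ↥E) with mul_comm := fun a b => Subtype.ext (hs.comm _ a.2 _ b.2) }
  have hcommE : ∀ a b : ↥E, a * b = b * a := mul_comm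
  have hmN : m ∈ Subgroup.normalizer (E : Set ↥S) := hd.hN ▸ hd.hMN hd.hmM
  let zE : ↥E := ⟨c, hd.c_mem⟩
  let eE : ↥E := ⟨e, hd.he⟩
  set t : MulAut ↥E := Subgroup.normalizerMonoidHom E ⟨m, hmN⟩ with ht
  have htval : ∀ a : ↥E, (t a : ↥S) = m * a * m⁻¹ := fun a => rfl
  have htA : t ∈ aut F E := conj_mem_aut F hmN
  have hpow : ∀ a : ↥E, a ^ p = 1 := fun a => Subtype.ext (hs.pow _ a.2)
  let WE : Subgroup ↥E := W.subgroupOf E
  have hWfix : ∀ a ∈ WE, t a = a := fun a ha => Subtype.ext (by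
    rw [htval, (hd.hWN (a : ↥S) ha m (hd.hMN hd.hmM)).symm.eq, mul_inv_cancel_right])
  have htc : ∀ a : ↥E, a⁻¹ * t a ∈ Subgroup.zpowers zE := by
    intro a
    obtain ⟨i, hi⟩ := Subgroup.mem_zpowers_iff.1 (hd.hNN m (hd.hMN hd.hmM) _ (hd.E_le a.2))
    refine Subgroup.mem_zpowers_iff.2 ⟨i, ?_⟩
    rw [mul_comm]
    exact Subtype.ext (by simp only [Subgroup.coe_zpow, Subgroup.coe_mul, htval, InvMemClass.coe_inv]; exact hi)
  have hte : t eE = zE⁻¹ * eE := Subtype.ext (by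
    rw [htval, Subgroup.coe_mul, InvMemClass.coe_inv]
    show m * e * m⁻¹ = c⁻¹ * e
    rw [hd.hc, commutatorElement_inv, commutatorElement_def]; group)
  have htz : t zE = zE := hWfix zE hd.hcW
  have hfixW : ∀ a : ↥E, t a = a → a ∈ WE := by
    intro a ha
    have h0 : (a : ↥S) ∈ Subgroup.zpowers e ⊔ W := hd.spanE ▸ a.2
    haveI := hd.normalW
    obtain ⟨v, hv, w, hw, hvw⟩ := Subgroup.mem_sup_of_normal_right.1 h0
    obtain ⟨i, rfl⟩ := Subgroup.mem_zpowers_iff.1 hv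
    have h1 : Commute m (a : ↥S) := by
      have := congrArg Subtype.val ha
      rw [htval, mul_inv_eq_iff_eq_mul] at this
      exact this
    have h2 : e ^ i ∈ Subgroup.centralizer ({m} : Set ↥S) := by
      rw [show e ^ i = (a : ↥S) * w⁻¹ by rw [← hvw, mul_inv_cancel_right]]
      exact Subgroup.mem_centralizer_singleton_iff.2
        ((h1.mul_right (hd.hWN _ (inv_mem hw) m (hd.hMN hd.hmM)).symm).symm.eq)
    have hne : e ∉ Subgroup.centralizer ({m} : Set ↥S) := fun h => hd.hc1 (by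
      rw [hd.hc]
      exact commutatorElement_eq_one_iff_mul_comm.2 (Subgroup.mem_centralizer_singleton_iff.1 h))
    rw [MaxClass.zpow_eq_one_of_mem (hs.pow e hd.he) hne h2, one_mul] at hvw
    exact Subgroup.mem_subgroupOf.2 (hvw ▸ hw)
  have ht1 : t ≠ 1 := fun h => hd.heW (hfixW eE (by rw [h]; rfl))
  have htiter : ∀ (a : ↥E) (k : ℕ), (t ^ k) a = a * (a⁻¹ * t a) ^ k := by
    intro a k
    refine aut_pow_apply_of_fixed t (mul_inv_cancel_left a (t a)).symm ?_ k
    obtain ⟨i, hi⟩ := Subgroup.mem_zpowers_iff.1 (htc a)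
    rw [← hi, map_zpow, htz]
  have htp : t ^ p = 1 := MulEquiv.ext fun a => by rw [htiter, hpow, mul_one, MulAut.one_apply]
  obtain ⟨f, hf, hft⟩ := exists_not_normalizes hs.ess hs.comm htA htp ht1
  obtain ⟨D, C, -, hDC, hDcard, -, hzD, hz1, hCfix, hinv, s, hsA, -, hsD, hsC⟩ :=
    transvection_structure hcommE (IsPGroup.of_card hs.cardE) (aut F E) htA (hpow zE) htz htc ht1
      (fun B => hs.pSubgroup_le) ⟨f, hf, hft⟩
  have hdec : ∀ a : ↥E, ∃ d ∈ D, ∃ v ∈ C, d * v = a := fun a =>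
    Subgroup.mem_sup_of_normal_left.1 (hDC.ge (Subgroup.mem_top a))
  have hext : ∀ {u v : MulAut ↥E}, (∀ d ∈ D, u d = v d) → (∀ x ∈ C, u x = v x) → u = v := by
    intro u v h1 h2
    refine MulEquiv.ext fun a => ?_
    obtain ⟨d, hd', x, hx, rfl⟩ := hdec a
    rw [map_mul, map_mul, h1 d hd', h2 x hx]
  have hCW : C ≤ WE := fun a ha => hfixW a (hCfix a ha)
  -- `D ∩ W` is the line of `c`
  set KD : Subgroup ↥D := WE.subgroupOf D with hKD
  have hKD1 : KD ≠ ⊤ := fun h => ht1 (hext (fun d hd' => hWfix d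
    (h.ge (Subgroup.mem_top (⟨d, hd'⟩ : ↥D)))) fun x hx => hCfix x hx)
  have hzWE : Subgroup.zpowers zE ≤ WE := Subgroup.zpowers_le.2 hd.hcW
  have hDW : ∀ a ∈ D, a ∈ WE → a ∈ Subgroup.zpowers zE := by
    intro a ha haW
    let zD : ↥D := ⟨zE, hzD⟩
    have hle : Subgroup.zpowers zD ≤ KD := Subgroup.zpowers_le.2 hd.hcW
    have heq : Subgroup.zpowers zD = KD := by
      refine Subgroup.eq_of_le_of_card_ge hle ?_
      rw [Nat.card_zpowers, ← Subgroup.orderOf_coe, orderOf_eq_prime (hpow _) hz1]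
      obtain ⟨i, hi, hi'⟩ := (Nat.dvd_prime_pow hp).1 (hDcard ▸ Subgroup.card_subgroup_dvd_card KD)
      have : i ≠ 2 := fun h => hKD1 (Subgroup.eq_top_of_card_eq _ (by rw [hi', h, hDcard]))
      rw [hi']
      exact (Nat.pow_le_pow_right hp.pos (by omega)).trans_eq (pow_one p)
    obtain ⟨i, hi⟩ := Subgroup.mem_zpowers_iff.1 (heq.ge (show (⟨a, ha⟩ : ↥D) ∈ KD from haW))
    exact Subgroup.mem_zpowers_iff.2 ⟨i, congrArg Subtype.val hi⟩
  have hWweight : ∀ (q : MulAut ↥E), q zE ∈ Subgroup.zpowers zE → (∀ x ∈ C, q x = x) →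
      ∀ w ∈ W, Cg (Subgroup.zpowers c) (ev q w) w 1 := by
    intro q hqz hqC w hw
    have hwE : w ∈ E := hd.hWE hw
    obtain ⟨d, hd', x, hx, hdx⟩ := hdec ⟨w, hwE⟩
    have hdW : d ∈ WE := by
      have h1 : d = (⟨w, hwE⟩ : ↥E) * x⁻¹ := by rw [← hdx, mul_inv_cancel_right]
      rw [h1]
      exact mul_mem hw (inv_mem (hCW hx))
    obtain ⟨i, hi⟩ := Subgroup.mem_zpowers_iff.1 (hDW d hd' hdW)
    have h2 : (⟨w, hwE⟩ : ↥E)⁻¹ * q ⟨w, hwE⟩ ∈ Subgroup.zpowers zE := by
      rw [← hdx, ← hi, map_mul, map_zpow, hqC x hx, show (zE ^ i * x)⁻¹ * (q zE ^ i * x)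
        = (zE ^ i)⁻¹ * q zE ^ i by rw [mul_inv_rev, mul_assoc, mul_comm x⁻¹, mul_assoc, mul_assoc,
          mul_inv_cancel, mul_one]]
      exact mul_mem (inv_mem (zpow_mem (Subgroup.mem_zpowers zE) i)) (zpow_mem hqz i)
    obtain ⟨k, hk⟩ := Subgroup.mem_zpowers_iff.1 h2
    show (w ^ (1 : ℤ))⁻¹ * ev q w ∈ _
    rw [zpow_one, ev_apply q hwE]
    exact Subgroup.mem_zpowers_iff.2 ⟨k, congrArg Subtype.val hk⟩
  have hewt : ∀ (q : MulAut ↥E) (a : ℤ), (eE ^ a)⁻¹ * q eE ∈ WE → Cg W (ev q e) e a := by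
    intro q a h
    show (e ^ a)⁻¹ * ev q e ∈ W
    rw [ev_apply q hd.he]
    exact h
  have hcwt : ∀ (q : MulAut ↥E) (a : ℤ), q zE = zE ^ a → Cg ⊥ (ev q c) c a := by
    intro q a h
    show (c ^ a)⁻¹ * ev q c ∈ (⊥ : Subgroup ↥S)
    rw [Subgroup.mem_bot, inv_mul_eq_one, ev_apply q hd.c_mem]
    exact (congrArg Subtype.val h).symm
  refine ⟨⟨s, hsA, hewt s _ ?_, hcwt s _ ?_, hWweight s ?_ hsC⟩, ?_⟩
  · obtain ⟨d, hd', x, hx, hdx⟩ := hdec eE
    rw [zpow_neg, zpow_one, inv_inv, ← hdx, map_mul, hsD d hd', hsC x hx,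
      show d * x * (d⁻¹ * x) = x * x by rw [mul_mul_mul_comm, mul_inv_cancel, one_mul]]
    exact mul_mem (hCW hx) (hCW hx)
  · rw [hsD zE hzD, zpow_neg, zpow_one]
  · rw [hsD zE hzD]; exact inv_mem (Subgroup.mem_zpowers zE)
  -- the torus element
  let η : ↥(aut F E) →* MulAut ↥D :=
    { toFun := fun b =>
        { toFun := fun a => ⟨(b : MulAut ↥E) a, (hinv _ b.2).1 a a.2⟩
          invFun := fun a => ⟨(b : MulAut ↥E)⁻¹ a, (hinv _ (inv_mem b.2)).1 a a.2⟩
          left_inv := fun a => Subtype.ext (MulAut.inv_apply_self _ (b : MulAut ↥E) a)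
          right_inv := fun a => Subtype.ext (MulAut.apply_inv_self _ (b : MulAut ↥E) a)
          map_mul' := fun a a' => Subtype.ext (map_mul (b : MulAut ↥E) (a : ↥E) (a' : ↥E)) }
      map_one' := MulEquiv.ext fun a => rfl
      map_mul' := fun b b' => MulEquiv.ext fun a => rfl }
  let tA : ↥(aut F E) := ⟨t, htA⟩
  let t'A : ↥(aut F E) := ⟨f, hf⟩ * tA * ⟨f, hf⟩⁻¹
  have ht'C : ∀ x ∈ C, (t'A : MulAut ↥E) x = x := fun x hx => by
    show f (t (f⁻¹ x)) = x
    rw [hCfix _ ((hinv _ (inv_mem hf)).2 x hx), MulAut.apply_inv_self]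
  have hHfix : ∀ b ∈ Subgroup.closure ({tA, t'A} : Set ↥(aut F E)), ∀ x ∈ C,
      (b : MulAut ↥E) x = x := by
    intro b hb x hx
    induction hb using Subgroup.closure_induction with
    | mem b hb => rcases hb with rfl | rfl; exacts [hCfix x hx, ht'C x hx]
    | one => rfl
    | mul b b' _ _ h h' => rw [Subgroup.coe_mul, MulAut.mul_apply, h', h]
    | inv b _ h =>
      rw [InvMemClass.coe_inv]
      conv_lhs => rw [← h]
      exact MulAut.inv_apply_self _ (b : MulAut ↥E) x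
  have hsub : ∀ k : ℤ, tA ^ k ∈ Subgroup.closure ({tA, t'A} : Set ↥(aut F E)) := fun k =>
    zpow_mem (Subgroup.subset_closure (by simp)) k
  have hσ1 : η tA ≠ 1 := fun h => ht1 (hext
    (fun d hd' => congrArg (fun u : MulAut ↥D => ((u ⟨d, hd'⟩ : ↥D) : ↥E)) h) fun x hx => hCfix x hx)
  have hτσ : η t'A ∉ Subgroup.zpowers (η tA) := by
    intro h
    obtain ⟨k, hk⟩ := Subgroup.mem_zpowers_iff.1 h
    refine hft (Subgroup.mem_zpowers_iff.2 ⟨k, ?_⟩)
    have h1 : ((tA ^ k : ↥(aut F E)) : MulAut ↥E) = (t'A : MulAut ↥E) := hext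
      (fun d hd' => by
        have h2 := congrArg (fun u : MulAut ↥D => ((u ⟨d, hd'⟩ : ↥D) : ↥E)) hk
        rw [← map_zpow] at h2
        exact h2)
      fun x hx => by rw [ht'C x hx, hHfix _ (hsub k) x hx]
    exact (Subgroup.coe_zpow _ tA k).symm.trans h1
  obtain ⟨h, hh, hht, hhK⟩ := RankTwoTorus.exists_torus (U := ↥D) (fun a b => mul_comm a b) hDcard
    (fun a => Subtype.ext (hpow a)) (σ := η tA) (τ := η t'A)
    ⟨1, by rw [pow_one, ← map_pow, show tA ^ p = 1 from Subtype.ext htp, map_one]⟩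
    ⟨1, by
      rw [pow_one, ← map_pow, conj_pow, show tA ^ p = 1 from Subtype.ext htp, mul_one, mul_inv_cancel,
        map_one]⟩
    hσ1 hτσ hj hKD1 fun x => hzWE (htc (x : ↥E))
  have hh' : h ∈ (Subgroup.closure ({tA, t'A} : Set ↥(aut F E))).map η := by
    rw [MonoidHom.map_closure]
    simpa [Set.image_pair] using hh
  obtain ⟨b, hb, rfl⟩ := hh'
  have hbC : ∀ x ∈ C, (b : MulAut ↥E) x = x := hHfix b hb
  have hbe : (eE ^ (-(j : ℤ)))⁻¹ * (b : MulAut ↥E) eE ∈ WE := by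
    obtain ⟨d, hd', x, hx, hdx⟩ := hdec eE
    have h1 : (b : MulAut ↥E) d * d ^ j ∈ WE := hhK ⟨d, hd'⟩
    rw [zpow_neg, inv_inv, zpow_natCast, ← hdx, map_mul, hbC x hx, mul_pow,
      show d ^ j * x ^ j * ((b : MulAut ↥E) d * x) = (b : MulAut ↥E) d * d ^ j * (x ^ j * x) by
        rw [mul_mul_mul_comm, mul_comm (d ^ j)]]
    exact mul_mem h1 (mul_mem (pow_mem (hCW hx) j) (hCW hx))
  refine ⟨b, b.2, hewt _ _ hbe, hcwt _ _ ?_, ?_⟩
  swap
  · refine hWweight _ ?_ hbC
    obtain ⟨i, hi⟩ : ∃ i : ℤ, zE ^ i = (b : MulAut ↥E) zE := by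
      refine Subgroup.mem_zpowers_iff.1 (hDW _ ((hinv _ b.2).1 _ hzD) ?_)
      refine hfixW _ ?_
      have h1 := congrArg (fun u : MulAut ↥D => ((u ((η b) ⟨zE, hzD⟩) : ↥D) : ↥E))
        (mul_inv_eq_iff_eq_mul.1 hht)
      have h2 : t ((b : MulAut ↥E) zE) = (b : MulAut ↥E) zE := by
        have h3 := congrArg (fun u : MulAut ↥D => ((u ⟨zE, hzD⟩ : ↥D) : ↥E))
          (mul_inv_eq_iff_eq_mul.1 hht)
        have h4 : (b : MulAut ↥E) (t zE) = (t ^ 4) ((b : MulAut ↥E) zE) := h3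
        rw [htz] at h4
        have h5 : (t ^ p) ((b : MulAut ↥E) zE) = (b : MulAut ↥E) zE := by rw [htp]; rfl
        rw [htiter] at h4
        have h6 : (((b : MulAut ↥E) zE)⁻¹ * t ((b : MulAut ↥E) zE)) ^ 4 = 1 := by
          rwa [eq_comm, mul_eq_left] at h4
        have h7 : (((b : MulAut ↥E) zE)⁻¹ * t ((b : MulAut ↥E) zE)) ^ Nat.gcd 4 p = 1 :=
          pow_gcd_eq_one.2 ⟨h6, hpow _⟩
        rw [Nat.Coprime.gcd_eq_one (Nat.Coprime.pow_left 2 ((Nat.coprime_primes Nat.prime_two hp).2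
          fun h => hs.hp2 h.symm) : Nat.Coprime (2 ^ 2) p), pow_one, inv_mul_eq_one] at h7
        exact h7.symm
      exact h2
    exact Subgroup.mem_zpowers_iff.2 ⟨i, hi⟩
  -- `b c = c ^ (-2)`
  have h4 : (b : MulAut ↥E) (t eE) = (t ^ 4) ((b : MulAut ↥E) eE) := by
    have h1 : ((b * tA * b⁻¹ : ↥(aut F E)) : MulAut ↥E) = ((tA ^ 4 : ↥(aut F E)) : MulAut ↥E) := hext
      (fun d hd' => by
        have h2 := congrArg (fun u : MulAut ↥D => ((u ⟨d, hd'⟩ : ↥D) : ↥E)) hht
        rw [← map_pow, ← map_inv, ← map_mul, ← map_mul] at h2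
        exact h2)
      fun x hx => by
        rw [hHfix _ (mul_mem (mul_mem hb (Subgroup.subset_closure (by simp))) (inv_mem hb)) x hx,
          hHfix _ (pow_mem (Subgroup.subset_closure (by simp)) 4) x hx]
    have h3 : (b : MulAut ↥E) * t * (b : MulAut ↥E)⁻¹ = t ^ 4 := h1
    rw [mul_inv_eq_iff_eq_mul] at h3
    exact congrArg (fun u : MulAut ↥E => u eE) h3
  set r := (b : MulAut ↥E) eE with hr
  set w := (eE ^ (-(j : ℤ)))⁻¹ * r with hwdef
  have hrw : r = eE ^ (-(j : ℤ)) * w := (mul_inv_cancel_left _ _).symm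
  have h5 : r⁻¹ * t r = zE ^ (j : ℤ) := by
    rw [hrw, map_mul, map_zpow, hte, hWfix w hbe, mul_zpow, inv_zpow', neg_neg,
      mul_assoc, mul_comm (zE ^ (j : ℤ)), inv_mul_cancel_left]
  rw [hte, map_mul, map_inv, htiter, h5, mul_comm r, mul_left_inj, inv_eq_iff_eq_inv] at h4
  rw [h4, ← zpow_natCast, ← zpow_mul, ← zpow_neg]
  refine zpow_eq_zpow_of_dvd (hpow zE) ⟨-2 * (q₀ : ℤ), ?_⟩
  have hj' : (2 : ℤ) * j = 1 + p * q₀ := by exact_mod_cast hj
  push_cast
  linear_combination (-2 : ℤ) * hj'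

/-- The automorphisms of `S` with the given weights. -/
theorem Setup.extend_weights (hs : Setup p F E) (hd : Data p E N W M g e m c) {a a' : ℤ}
    {q : MulAut ↥E} (hq : q ∈ aut F E) (hw : Weights q W e c a a') :
    ∃ α ∈ aut F (⊤ : Subgroup ↥S), Weights α W e c a a' := by
  have hp := (Fact.out : p.Prime)
  haveI := hd.normalW
  haveI := hd.normalM
  haveI := hd.normalN
  haveI := hd.normal_zpowers
  have hcp : c ^ p = 1 := hs.pow c hd.c_mem
  have hCc : Nat.card (Subgroup.zpowers c) = p := by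
    rw [Nat.card_zpowers, orderOf_eq_prime hcp hd.hc1]
  obtain ⟨k, r, hr, hqr⟩ := exists_pprime_power (p := p) q
  have hw' : Weights (q ^ p ^ k) W e c a a' := by
    refine ⟨(Cg.iterate q hd.hWE (hw.W_inv hd.hcW) hd.he hw.he _).congr (p := p)
        (by rw [hs.pow e hd.he]; exact one_mem _) (dvd_pow_pow_sub a k),
      (Cg.iterate q bot_le ?_ hd.c_mem hw.hc _).congr (p := p) (by rw [hcp]; exact one_mem _)
        (dvd_pow_pow_sub a' k), fun w hwW => ?_⟩
    · intro x hx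
      rw [Subgroup.mem_bot.1 hx, ev_apply q (one_mem E)]
      show ((q 1 : ↥E) : ↥S) ∈ (⊥ : Subgroup ↥S)
      rw [map_one]
      exact one_mem _
    · have h1 := Cg.iterate q (Subgroup.zpowers_le.2 hd.c_mem) (hw.C_inv hd.c_mem) (hd.hWE hwW)
        (hw.hw w hwW) (p ^ k)
      rwa [one_pow] at h1
  let f : ℕ → Subgroup ↥S := fun i => match i with
    | 0 => ⊥
    | 1 => Subgroup.zpowers c
    | 2 => W
    | _ => E
  obtain ⟨β, hβ, hagree, r', hr', hβr⟩ := Internal.exists_extension hs.hS hs.hF hs.ess.2.1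
    (pow_mem hq _) hqr hr f 3 rfl rfl
    (by
      intro i hi
      interval_cases i
      exacts [bot_le, Subgroup.zpowers_le.2 hd.hcW, hd.hWE])
    (by
      intro i hi
      interval_cases i
      · show Nat.card (Subgroup.zpowers c) ≤ p * Nat.card (⊥ : Subgroup ↥S)
        rw [hCc, Subgroup.card_bot, mul_one]
      · show Nat.card W ≤ p * Nat.card (Subgroup.zpowers c)
        rw [hCc, hd.cardW, sq]
      · show Nat.card E ≤ p * Nat.card W
        rw [hd.cardW, hs.cardE, ← pow_succ'])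
    (by
      intro i hi x hx
      interval_cases i
      · rw [show x = 1 from Subtype.ext (Subgroup.mem_bot.1 hx), map_one]
        exact (f 0).one_mem
      · rw [← ev_apply _ x.2]; exact hw'.C_inv hd.c_mem _ hx
      · rw [← ev_apply _ x.2]; exact hw'.W_inv hd.hcW _ hx
      · exact ((q ^ p ^ k) x).2)
    (by
      intro y hy i hi x hx
      interval_cases i
      · rw [Subgroup.mem_bot.1 hx, mul_one, mul_inv_cancel]; exact (f 0).one_mem
      · exact hd.normal_zpowers.conj_mem x hx y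
      · exact hd.normalW.conj_mem x hx y
      · exact (Subgroup.mem_normalizer_iff.1 hy x).1 hx)
    hd.hN.symm
  have hev : ∀ x ∈ E, ev β x = ev (q ^ p ^ k) x := fun x hx => ev_of_agree hd.E_le hagree hx
  have hwN : Weights β W e c a a' := hw'.of_eq hd.he hd.c_mem hd.hWE hev
  -- `M` is invariant
  have hMinv : ∀ x ∈ M, ev β x ∈ M := invariant_step (E₁ := E) (B := W) (x := e) (u := g) hd.spanE
    (by rw [← hd.hm]; exact hd.spanM) hd.spanN hd.hMN
    (by rw [← hd.hm]; exact comm_mem_symm (hd.hSM m hd.hmM g))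
    (by rw [← hd.hm]; exact comm_mem_symm (hd.hSM m hd.hmM e))
    (by rw [hs.pow e hd.he]; exact one_mem _) (hs.cardE.trans hd.cardM.symm) hs.ess.2.1
    (by
      rw [← hd.hN, hd.cardN, Subgroup.normalizer_eq_top_iff.2 hd.normalM, Subgroup.card_top, hs.card]
      exact Nat.pow_lt_pow_right hp.one_lt (by norm_num))
    hβ (hwN.W_inv hd.hcW)
  let f' : ℕ → Subgroup ↥S := fun i => match i with
    | 0 => ⊥
    | 1 => Subgroup.zpowers c
    | 2 => W
    | 3 => M
    | _ => N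
  have hNn : Subgroup.normalizer (N : Set ↥S) = ⊤ := Subgroup.normalizer_eq_top_iff.2 hd.normalN
  obtain ⟨α, hα, hagree', -⟩ := Internal.exists_extension hs.hS hs.hF (L := ⊤)
    (⟨up_le N, fun Q _ => by
      rw [card_normalizerIn_up, hNn, Subgroup.card_top]
      exact card_le_of_le le_rfl (normalizerIn_le S Q)⟩ : F.IsFullyNormalized (up N))
    hβ hβr hr' f' 4 rfl rfl
    (by
      intro i hi
      interval_cases i
      exacts [bot_le, Subgroup.zpowers_le.2 hd.hcW, hd.hWM, hd.hMN])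
    (by
      intro i hi
      interval_cases i
      · show Nat.card (Subgroup.zpowers c) ≤ p * Nat.card (⊥ : Subgroup ↥S)
        rw [hCc, Subgroup.card_bot, mul_one]
      · show Nat.card W ≤ p * Nat.card (Subgroup.zpowers c)
        rw [hCc, hd.cardW, sq]
      · show Nat.card M ≤ p * Nat.card W
        rw [hd.cardW, hd.cardM, ← pow_succ']
      · show Nat.card N ≤ p * Nat.card M
        rw [hd.cardM, hd.cardN, ← pow_succ'])
    (by
      intro i hi x hx
      interval_cases i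
      · rw [show x = 1 from Subtype.ext (Subgroup.mem_bot.1 hx), map_one]
        exact (f' 0).one_mem
      · rw [← ev_apply _ x.2]; exact hwN.C_inv (hd.E_le hd.c_mem) _ hx
      · rw [← ev_apply _ x.2]; exact hwN.W_inv hd.hcW _ hx
      · rw [← ev_apply _ x.2]; exact hMinv _ hx
      · exact (β x).2)
    (by
      intro y _ i hi x hx
      interval_cases i
      · rw [Subgroup.mem_bot.1 hx, mul_one, mul_inv_cancel]; exact (f' 0).one_mem
      · exact hd.normal_zpowers.conj_mem x hx y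
      · exact hd.normalW.conj_mem x hx y
      · exact hd.normalM.conj_mem x hx y
      · exact hd.normalN.conj_mem x hx y)
    hNn
  exact ⟨α, hα, hwN.of_eq hd.e_mem (hd.E_le hd.c_mem) (hd.hWE.trans hd.E_le)
    fun x hx => ev_of_agree le_top hagree' hx⟩

end Cfsg.Agent.Fusion.OrderFive
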